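import Cfsg.Agent.Lib.Involutions.BrauerSuzuki
import Mathlib.GroupTheory.SpecificGroups.Cyclic
import Mathlib.GroupTheory.Sylow

/-!
# Commutator pairings on abelian Sylow subgroups of simple groups
-/

set_option autoImplicit false
set_option linter.unusedSectionVars false
set_option linter.style.haveILetI false

namespace CfsgLib.CentralType

open Cfsg
open scoped commutatorElement

universe u

/-- In every central extension by a cyclic group, the lifts of a Sylow subgroup commute. -/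
def Good (T : Type u) [Group T] (p : ℕ) : Prop :=
  ∀ (E : Type u) [Group E] [Finite E] (π : E →* T), Function.Surjective π →
    π.ker ≤ Subgroup.center E → IsCyclic π.ker →
    ∀ S : Sylow p T, ∀ x y : E, π x ∈ S → π y ∈ S → x * y = y * x

/-- A cyclic Sylow subgroup is good. -/
theorem good_of_cyclic {T : Type u} [Group T] [Finite T] {p : ℕ} [Fact p.Prime] (S₀ : Sylow p T)
    (hS₀ : IsCyclic (S₀ : Subgroup T)) : Good T p := by
  intro E _ _ π hπ hker _ S x y hx hy
  haveI := hS₀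
  haveI : IsCyclic (S : Subgroup T) := isCyclic_of_surjective (Sylow.equiv S₀ S).toMonoidHom
    (Sylow.equiv S₀ S).surjective
  obtain ⟨⟨g, hg⟩, hgen⟩ := IsCyclic.exists_generator (α := (S : Subgroup T))
  obtain ⟨g', rfl⟩ := hπ g
  have hdec : ∀ x, π x ∈ S → ∃ (n : ℤ) (k : E), k ∈ Subgroup.center E ∧ x = g' ^ n * k := by
    intro x hx
    obtain ⟨n, hn⟩ := hgen ⟨π x, hx⟩
    refine ⟨n, (g' ^ n)⁻¹ * x, hker ?_, by simp⟩
    rw [MonoidHom.mem_ker, map_mul, map_inv, map_zpow]
    have h : (π g') ^ n = π x := congrArg Subtype.val hn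
    rw [h, inv_mul_cancel]
  obtain ⟨n, k, hk, rfl⟩ := hdec x hx
  obtain ⟨m, l, hl, rfl⟩ := hdec y hy
  rw [Subgroup.mem_center_iff] at hk hl
  calc g' ^ n * k * (g' ^ m * l) = g' ^ n * (k * g' ^ m) * l := by group
    _ = g' ^ n * g' ^ m * (k * l) := by rw [← hk (g' ^ m)]; group
    _ = g' ^ m * g' ^ n * (l * k) := by rw [← zpow_add, add_comm, zpow_add, hl k]
    _ = g' ^ m * (g' ^ n * l) * k := by group
    _ = g' ^ m * l * (g' ^ n * k) := by rw [hl (g' ^ n)]; group

/-- A non-abelian simple group has no isolated involution. -/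
theorem no_isolated {G : Type*} [Group G] [Finite G] [IsSimpleGroup G]
    (hG : ¬ IsMulCommutative G) (z : G) : ¬ IsIsolatedInvolution z := by
  intro hz
  rcases (inferInstance : (pPrimeCore 2 G).Normal).eq_bot_or_eq_top with h | h
  · have hc : z ∈ Subgroup.center G := Subgroup.mem_center_iff.2 fun g => by
      have := CfsgLib.Involutions.zstar G z hz g
      rw [h, Subgroup.mem_bot] at this
      exact mul_inv_eq_iff_eq_mul.1 (mul_inv_eq_one.1 this)
    rcases (inferInstance : (Subgroup.center G).Normal).eq_bot_or_eq_top with h' | h'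
    · rw [h', Subgroup.mem_bot] at hc
      have := hz.1
      rw [hc, orderOf_one] at this
      omega
    · exact hG ⟨⟨fun a b => (Subgroup.mem_center_iff.1 (h' ▸ Subgroup.mem_top b) a)⟩⟩
  · have := CfsgLib.PCore.not_dvd_card_pPrimeCore (p := 2) (G := G)
    rw [h, Subgroup.card_top] at this
    exact this (hz.1 ▸ orderOf_dvd_natCard z)

/-- An involution all of whose conjugates in a Sylow subgroup equal it is isolated. -/
theorem isolated_of_only_conj {G : Type*} [Group G] [Finite G] (S : Sylow 2 G) {c : G}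
    (hcS : c ∈ S) (hc : orderOf c = 2) (honly : ∀ g : G, g * c * g⁻¹ ∈ S → g * c * g⁻¹ = c) :
    IsIsolatedInvolution c := by
  haveI : Fact (Nat.Prime 2) := ⟨Nat.prime_two⟩
  refine ⟨hc, fun g hg => ?_⟩
  have hc2 : c ^ 2 = 1 := hc ▸ pow_orderOf_eq_one c
  -- the group generated by the two conjugates
  let H : Subgroup G := Subgroup.closure {c, g * c * g⁻¹}
  haveI : IsMulCommutative H := Subgroup.isMulCommutative_closure (by
    intro u hu v hv
    rcases hu with rfl | rfl <;> rcases hv with rfl | rfl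
    exacts [rfl, hg.eq, hg.eq.symm, rfl])
  have hH : IsPGroup 2 H := by
    rintro ⟨q, hq⟩
    refine ⟨1, Subtype.ext ?_⟩
    show q ^ 2 ^ 1 = 1
    rw [pow_one]
    induction hq using Subgroup.closure_induction with
    | mem u hu =>
      rcases hu with rfl | rfl
      · exact hc2
      · rw [conj_pow, hc2, mul_one, mul_inv_cancel]
    | one => exact one_pow _
    | mul u v hu hv hu2 hv2 =>
      have huv : Commute u v :=
        congrArg Subtype.val (IsMulCommutative.is_comm.comm (⟨u, hu⟩ : H) ⟨v, hv⟩)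
      rw [huv.mul_pow, hu2, hv2, mul_one]
    | inv u _ hu2 => rw [inv_pow, hu2, inv_one]
  obtain ⟨Q, hQ⟩ := hH.exists_le_sylow
  obtain ⟨h, hh⟩ := MulAction.exists_smul_eq G Q S
  have hmem : ∀ q ∈ (Q : Subgroup G), h * q * h⁻¹ ∈ S := fun q hq => by
    rw [← hh]
    exact Subgroup.smul_mem_pointwise_smul q (MulAut.conj h) _ hq
  have h1 := honly h (hmem c (hQ (Subgroup.subset_closure (by simp))))
  have e : h * (g * c * g⁻¹) * h⁻¹ = (h * g) * c * (h * g)⁻¹ := by group
  have h2 := honly (h * g)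
    (e ▸ hmem _ (hQ (Subgroup.subset_closure (Set.mem_insert_of_mem _ rfl))))
  exact mul_left_cancel (mul_right_cancel ((e.trans h2).trans h1.symm))

/-- No involution of an abelian Sylow subgroup is fixed by its normalizer. -/
theorem not_fixed {T : Type*} [Group T] [Finite T] [IsSimpleGroup T] (hT : ¬ IsMulCommutative T)
    (S : Sylow 2 T) [IsMulCommutative (S : Subgroup T)] {c : T} (hcS : c ∈ S) (hc : orderOf c = 2) :
    ∃ n ∈ Subgroup.normalizer ((S : Subgroup T) : Set T), n * c * n⁻¹ ≠ c := by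
  haveI : Fact (Nat.Prime 2) := ⟨Nat.prime_two⟩
  by_contra! hfix
  refine no_isolated hT c (isolated_of_only_conj S hcS hc fun g hg => ?_)
  obtain ⟨n, hn, he⟩ := S.conj_eq_normalizer_conj_of_mem c g⁻¹ hcS (by rwa [inv_inv])
  rw [inv_inv] at he
  rw [he]
  simpa using hfix n⁻¹ (inv_mem hn)

/-- An abelian Sylow 2-subgroup of order eight of a simple group is elementary. -/
theorem sq_of_card_eight {T : Type*} [Group T] [Finite T] [IsSimpleGroup T]
    (hT : ¬ IsMulCommutative T) (S : Sylow 2 T) [IsMulCommutative (S : Subgroup T)]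
    (h8 : Nat.card (S : Subgroup T) = 8) : ∀ s ∈ (S : Subgroup T), s * s = 1 := by
  haveI : Fact (Nat.Prime 2) := ⟨Nat.prime_two⟩
  intro s hs
  by_contra hne
  let f : (S : Subgroup T) →* (S : Subgroup T) := MonoidHom.mk' (fun x => x * x) fun a b => by
    have h : b * a = a * b := IsMulCommutative.is_comm.comm b a
    calc a * b * (a * b) = a * (b * a) * b := by group
      _ = a * a * (b * b) := by rw [h]; group
  have hcard := f.ker.card_mul_index
  rw [Subgroup.index_ker, h8] at hcard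
  have hk1 : Nat.card f.ker ≠ 1 := by
    rw [Ne, Subgroup.card_eq_one]
    intro hk
    obtain ⟨x, hx⟩ := exists_prime_orderOf_dvd_card' (G := (S : Subgroup T)) 2
      (by rw [h8]; norm_num)
    have hmem : x ∈ f.ker := by
      show x * x = 1
      have := pow_orderOf_eq_one x
      rwa [hx, pow_two] at this
    rw [hk, Subgroup.mem_bot] at hmem
    rw [hmem, orderOf_one] at hx
    omega
  have hr1 : Nat.card f.range ≠ 1 := by
    rw [Ne, Subgroup.card_eq_one]
    intro hr
    have h1 : f ⟨s, hs⟩ ∈ f.range := ⟨_, rfl⟩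
    rw [hr, Subgroup.mem_bot] at h1
    exact hne (congrArg (fun w : (S : Subgroup T) => (w : T)) h1)
  -- one of the two has order two and is fixed by the normalizer
  have key : ∀ K : Subgroup (S : Subgroup T), Nat.card K = 2 →
      (∀ n ∈ Subgroup.normalizer ((S : Subgroup T) : Set T), ∀ x ∈ K,
        ∃ y ∈ K, (y : T) = n * x * n⁻¹) → False := by
    intro K hK hKn
    haveI : Nontrivial K := Finite.one_lt_card_iff_nontrivial.1 (by omega)
    obtain ⟨⟨c, hcK⟩, hc1⟩ := exists_ne (1 : K)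
    have hord : orderOf (c : T) = 2 := by
      rw [Subgroup.orderOf_coe, ← Subgroup.orderOf_mk c hcK]
      have hd : orderOf (⟨c, hcK⟩ : K) ∣ Nat.card K := orderOf_dvd_natCard _
      rw [hK] at hd
      refine ((Nat.dvd_prime Nat.prime_two).1 hd).resolve_left fun h => ?_
      exact hc1 (orderOf_eq_one_iff.1 h)
    obtain ⟨n, hn, hnc⟩ := not_fixed hT S c.2 hord
    obtain ⟨y, hyK, hy⟩ := hKn n hn c hcK
    obtain ⟨z, -, hz⟩ := Nat.card_eq_two_iff' (1 : K) |>.1 hK
    have hy1 : (⟨y, hyK⟩ : K) ≠ 1 := fun h => hc1 (Subtype.ext (Subtype.ext (by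
      have h1 : (y : T) = 1 := congrArg (fun w : K => ((w : (S : Subgroup T)) : T)) h
      rw [hy] at h1
      exact conj_eq_one_iff.1 h1)))
    refine hnc ?_
    rw [← hy]
    exact congrArg (fun w : K => ((w : (S : Subgroup T)) : T)) ((hz _ hy1).trans (hz _ hc1).symm)
  have hconj : ∀ n ∈ Subgroup.normalizer ((S : Subgroup T) : Set T), ∀ x : (S : Subgroup T),
      n * (x : T) * n⁻¹ ∈ S := fun n hn x => (Subgroup.mem_normalizer_iff.1 hn _).1 x.2
  have : Nat.card f.ker = 2 ∨ Nat.card f.range = 2 := by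
    obtain ⟨j, hj, hj'⟩ := (Nat.dvd_prime_pow Nat.prime_two).1
      (show Nat.card f.ker ∣ 2 ^ 3 from Dvd.intro _ hcard)
    rw [hj'] at hcard hk1
    rw [hj']
    interval_cases j
    · exact absurd rfl hk1
    · exact Or.inl rfl
    · exact Or.inr (by omega)
    · exact absurd (show Nat.card f.range = 1 by omega) hr1
  rcases this with h | h
  · refine key f.ker h fun n hn x hx => ⟨⟨_, hconj n hn x⟩, Subtype.ext ?_, rfl⟩
    have hx2 : (x : T) * x = 1 := congrArg Subtype.val (show x * x = 1 from hx)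
    show n * (x : T) * n⁻¹ * (n * x * n⁻¹) = 1
    rw [show n * (x : T) * n⁻¹ * (n * x * n⁻¹) = n * (x * x) * n⁻¹ by group, hx2]
    simp
  · refine key f.range h fun n hn x hx => ?_
    obtain ⟨u, rfl⟩ := hx
    refine ⟨f ⟨_, hconj n hn u⟩, ⟨_, rfl⟩, ?_⟩
    show n * (u : T) * n⁻¹ * (n * u * n⁻¹) = n * ((u : T) * u) * n⁻¹
    group

/-- A cyclic group has at most one involution. -/
theorem eq_of_sq_eq_one {C : Type*} [Group C] [Finite C] [IsCyclic C] {u v : C} (hu : u * u = 1)
    (hu1 : u ≠ 1) (hv : v * v = 1) (hv1 : v ≠ 1) : u = v := by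
  classical
  haveI : Fintype C := Fintype.ofFinite _
  by_contra huv
  have h3 : ({1, u, v} : Finset C) ⊆ Finset.univ.filter (fun t : C => t ^ 2 = 1) := by
    intro t ht
    simp only [Finset.mem_insert, Finset.mem_singleton] at ht
    rw [Finset.mem_filter]
    refine ⟨Finset.mem_univ _, ?_⟩
    rcases ht with rfl | rfl | rfl <;> simp [pow_two, hu, hv]
  have := (Finset.card_le_card h3).trans (IsCyclic.card_pow_eq_one_le (α := C) two_pos)
  rw [Finset.card_insert_of_notMem (by simp [hu1.symm, hv1.symm]),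
    Finset.card_insert_of_notMem (by simp [huv]), Finset.card_singleton] at this
  omega

/-- An abelian Sylow 2-subgroup of order eight of a simple group is good. -/
theorem good_two_of_card_eight {T : Type u} [Group T] [Finite T] [IsSimpleGroup T]
    (hT : ¬ IsMulCommutative T) (S₀ : Sylow 2 T) (hS₀ : IsMulCommutative (S₀ : Subgroup T))
    (h8 : Nat.card (S₀ : Subgroup T) = 8) : Good T 2 := by
  intro E _ _ π hπ hker hcyc S x₀ y₀ hx₀ hy₀
  haveI : Fact (Nat.Prime 2) := ⟨Nat.prime_two⟩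
  haveI hScomm : IsMulCommutative (S : Subgroup T) :=
    ⟨⟨fun a b => (Sylow.equiv S S₀).injective (by
      rw [map_mul, map_mul]
      exact hS₀.is_comm.comm _ _)⟩⟩
  have hS8 : Nat.card (S : Subgroup T) = 8 := by
    rw [Nat.card_congr (Sylow.equiv S S₀).toEquiv, h8]
  have hel := sq_of_card_eight hT S hS8
  let St := (S : Subgroup T).comap π
  have hcm : ∀ a ∈ St, ∀ b ∈ St, ⁅a, b⁆ ∈ π.ker := fun a ha b hb => by
    rw [MonoidHom.mem_ker, map_commutatorElement]
    exact commutatorElement_eq_one_iff_mul_comm.2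
      (congrArg Subtype.val (hScomm.is_comm.comm (⟨π a, ha⟩ : (S : Subgroup T)) ⟨π b, hb⟩))
  have hkc : ∀ k ∈ π.ker, ∀ g, g * k = k * g := fun k hk g =>
    Subgroup.mem_center_iff.1 (hker hk) g
  have hcmul : ∀ u ∈ St, ∀ v ∈ St, ∀ v' ∈ St, ⁅u, v * v'⁆ = ⁅u, v⁆ * ⁅u, v'⁆ := by
    intro u hu v hv v' hv'
    have hk := hkc _ (hcm u hu v' hv') v
    calc ⁅u, v * v'⁆ = ⁅u, v⁆ * (v * ⁅u, v'⁆ * v⁻¹) := by simp [commutatorElement_def, mul_assoc]
      _ = ⁅u, v⁆ * ⁅u, v'⁆ := by rw [hk, mul_inv_cancel_right]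
  have hsq : ∀ u ∈ St, ∀ v ∈ St, ⁅u, v⁆ * ⁅u, v⁆ = 1 := by
    intro u hu v hv
    rw [← hcmul u hu v hv v hv, commutatorElement_eq_one_iff_mul_comm]
    exact hkc _ (show π (v * v) = 1 by rw [map_mul]; exact hel _ hv) u
  have hcom : ∀ u ∈ St, ∀ v ∈ St, ∀ v' ∈ St, u * v ≠ v * u → u * v' ≠ v' * u →
      u * (v * v') = v * v' * u := by
    intro u hu v hv v' hv' hne hne'
    haveI := hcyc
    rw [← commutatorElement_eq_one_iff_mul_comm, hcmul u hu v hv v' hv']
    have e : (⟨⁅u, v⁆, hcm u hu v hv⟩ : π.ker) = ⟨⁅u, v'⁆, hcm u hu v' hv'⟩ :=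
      eq_of_sq_eq_one (Subtype.ext (hsq u hu v hv))
        (fun h => hne (commutatorElement_eq_one_iff_mul_comm.1 (congrArg Subtype.val h)))
        (Subtype.ext (hsq u hu v' hv'))
        (fun h => hne' (commutatorElement_eq_one_iff_mul_comm.1 (congrArg Subtype.val h)))
    rw [← (show ⁅u, v⁆ = ⁅u, v'⁆ from congrArg Subtype.val e)]
    exact hsq u hu v hv
  -- centralisers inside subgroups of the preimage
  let C : E → Subgroup E := fun t => Subgroup.centralizer ({t} : Set E)
  have hCmem : ∀ t v, v ∈ C t ↔ t * v = v * t := fun t v => by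
    simp only [C, Subgroup.mem_centralizer_singleton_iff]
    exact eq_comm
  have hkC : ∀ t, π.ker ≤ C t := fun t k hk => (hCmem t k).2 (hkc k hk t)
  have hstep : ∀ (L : Subgroup E) (t w : E), L ≤ St → t ∈ St → w ∈ L → t * w ≠ w * t →
      Nat.card L = 2 * Nat.card (L ⊓ C t : Subgroup E) := by
    intro L t w hL ht hw hne
    have h2 : ((C t).subgroupOf L).index = 2 := by
      refine Subgroup.index_eq_two_iff.2 ⟨⟨w, hw⟩, fun b => ?_⟩
      simp only [Subgroup.mem_subgroupOf, Subgroup.coe_mul, hCmem]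
      by_cases hb : t * (b : E) = b * t
      · refine Or.inr ⟨hb, fun h => hne ?_⟩
        have h1 := (C t).mul_mem ((C t).inv_mem ((hCmem t b).2 hb)) ((hCmem t _).2 h)
        rw [inv_mul_cancel_left] at h1
        exact (hCmem t w).1 h1
      · exact Or.inl ⟨hcom t ht b (hL b.2) w (hL hw) hb hne, hb⟩
    have h3 := ((C t).subgroupOf L).card_mul_index
    rw [h2, ← Subgroup.inf_subgroupOf_right, Nat.card_congr
      (Subgroup.subgroupOfEquivOfLe inf_le_right).toEquiv, inf_comm, mul_comm] at h3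
    exact h3.symm
  by_contra hxy
  set L1 := St ⊓ C x₀ with hL1
  set L2 := L1 ⊓ C y₀ with hL2
  have hc1 : Nat.card St = 2 * Nat.card L1 := hstep St x₀ y₀ le_rfl hx₀ hy₀ hxy
  have hc2 : Nat.card L1 = 2 * Nat.card L2 :=
    hstep L1 y₀ x₀ inf_le_left hy₀ ⟨hx₀, (hCmem x₀ x₀).2 rfl⟩ (fun h => hxy h.symm)
  have hcard : ∀ K : Subgroup E, π.ker ≤ K → Nat.card K = Nat.card π.ker * Nat.card (K.map π) := by
    intro K hK
    rw [← (π.ker.subgroupOf K).card_mul_index,
      Nat.card_congr (Subgroup.subgroupOfEquivOfLe hK).toEquiv, ← Subgroup.relIndex,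
      show π.ker = (⊥ : Subgroup T).comap π from (MonoidHom.comap_bot π).symm,
      Subgroup.relIndex_comap, Subgroup.relIndex_bot_left]
  have hkSt : π.ker ≤ St := fun k hk => show π k ∈ S by
    rw [MonoidHom.mem_ker.1 hk]; exact one_mem _
  have hSt : Nat.card St = 8 * Nat.card π.ker := by
    rw [hcard St hkSt, Subgroup.map_comap_eq_self_of_surjective hπ, hS8, mul_comm]
  have hkL2 : π.ker ≤ L2 := le_inf (le_inf hkSt (hkC _)) (hkC _)
  by_cases hb : ∀ b ∈ L2, ∀ v ∈ St, b * v = v * b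
  · -- the radical has order two, so gives an isolated involution
    have h2 : Nat.card (L2.map π) = 2 := by
      have := hcard L2 hkL2
      have hk : 0 < Nat.card π.ker := Nat.card_pos
      refine Nat.eq_of_mul_eq_mul_left hk ?_
      omega
    haveI : Nontrivial (L2.map π) := Finite.one_lt_card_iff_nontrivial.1 (by rw [h2]; norm_num)
    obtain ⟨⟨r, hr⟩, hr1⟩ := exists_ne (1 : L2.map π)
    obtain ⟨b, hbL, rfl⟩ := hr
    have hbS : b ∈ St := hbL.1.1
    have hr1' : π b ≠ 1 := fun h => hr1 (Subtype.ext h)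
    have honly : ∀ q ∈ L2.map π, q ≠ 1 → q = π b := by
      intro q hq hq1
      classical
      haveI : Fintype (L2.map π) := Fintype.ofFinite _
      by_contra hne
      have : ({1, ⟨q, hq⟩, ⟨π b, b, hbL, rfl⟩} : Finset (L2.map π)).card ≤
          Nat.card (L2.map π) := by
        rw [Nat.card_eq_fintype_card]; exact Finset.card_le_univ _
      rw [Finset.card_insert_of_notMem (by simp [Subtype.ext_iff, Ne.symm hq1, Ne.symm hr1']),
        Finset.card_insert_of_notMem
          (by rw [Finset.mem_singleton]; exact fun e => hne (congrArg Subtype.val e)),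
        Finset.card_singleton, h2] at this
      omega
    obtain ⟨n, hn, hnb⟩ :=
      not_fixed hT S hbS (orderOf_eq_prime (by rw [pow_two]; exact hel _ hbS) hr1')
    obtain ⟨n', rfl⟩ := hπ n
    refine hnb (honly _ ?_ fun h1 => hr1' (conj_eq_one_iff.1 h1))
    have hbn : n' * b * n'⁻¹ ∈ St := by
      show π (n' * b * n'⁻¹) ∈ S
      rw [map_mul, map_mul, map_inv]
      exact (Subgroup.mem_normalizer_iff.1 hn _).1 hbS
    have hcent : ∀ v ∈ St, n' * b * n'⁻¹ * v = v * (n' * b * n'⁻¹) := by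
      intro v hv
      have hvn : n'⁻¹ * v * n' ∈ St := by
        show π (n'⁻¹ * v * n') ∈ S
        rw [map_mul, map_mul, map_inv]
        exact (Subgroup.mem_normalizer_iff''.1 hn _).1 hv
      calc n' * b * n'⁻¹ * v = n' * (b * (n'⁻¹ * v * n')) * n'⁻¹ := by group
        _ = v * (n' * b * n'⁻¹) := by rw [hb b hbL _ hvn]; group
    exact ⟨n' * b * n'⁻¹, ⟨⟨hbn, (hCmem _ _).2 (hcent x₀ hx₀).symm⟩,
      (hCmem _ _).2 (hcent y₀ hy₀).symm⟩, by simp⟩
  · -- four independent directions in a group of order eight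
    push Not at hb
    obtain ⟨b, hbL, v₀, hv₀, hbv⟩ := hb
    have hbS : b ∈ St := hbL.1.1
    have hbx : x₀ * b = b * x₀ := (hCmem _ _).1 hbL.1.2
    have hby : y₀ * b = b * y₀ := (hCmem _ _).1 hbL.2
    obtain ⟨v₁, hv₁, hxv₁, hbv₁⟩ : ∃ v ∈ St, x₀ * v = v * x₀ ∧ b * v ≠ v * b := by
      by_cases h : x₀ * v₀ = v₀ * x₀
      · exact ⟨v₀, hv₀, h, hbv⟩
      · refine ⟨v₀ * y₀, mul_mem hv₀ hy₀, hcom x₀ hx₀ v₀ hv₀ y₀ hy₀ h hxy, fun hc => hbv ?_⟩
        have h1 := (C b).mul_mem ((hCmem b _).2 hc) ((C b).inv_mem ((hCmem b _).2 hby.symm))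
        rw [mul_inv_cancel_right] at h1
        exact (hCmem b _).1 h1
    obtain ⟨v, hv, hxv, hyv, hbv'⟩ :
        ∃ v ∈ St, x₀ * v = v * x₀ ∧ y₀ * v = v * y₀ ∧ b * v ≠ v * b := by
      by_cases h : y₀ * v₁ = v₁ * y₀
      · exact ⟨v₁, hv₁, hxv₁, h, hbv₁⟩
      · refine ⟨v₁ * x₀, mul_mem hv₁ hx₀, ?_,
          hcom y₀ hy₀ v₁ hv₁ x₀ hx₀ h (fun e => hxy e.symm), fun hc => hbv₁ ?_⟩
        · rw [← mul_assoc, hxv₁]
        have h1 := (C b).mul_mem ((hCmem b _).2 hc) ((C b).inv_mem ((hCmem b _).2 hbx.symm))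
        rw [mul_inv_cancel_right] at h1
        exact (hCmem b _).1 h1
    have hvL : v ∈ L2 := ⟨⟨hv, (hCmem _ _).2 hxv⟩, (hCmem _ _).2 hyv⟩
    have hle2 : L2 ≤ St := inf_le_left.trans inf_le_left
    have hc3 := hstep L2 b v hle2 hbS hvL hbv'
    have hc4 := hstep (L2 ⊓ C b) v b (inf_le_left.trans hle2) hv
      ⟨hbL, (hCmem b b).2 rfl⟩ (fun e => hbv' e.symm)
    have h4 : Nat.card π.ker ≤ Nat.card (L2 ⊓ C b ⊓ C v : Subgroup E) :=
      Nat.le_of_dvd Nat.card_pos
        (Subgroup.card_dvd_of_le (le_inf (le_inf hkL2 (hkC _)) (hkC _)))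
    have hk : 0 < Nat.card π.ker := Nat.card_pos
    omega

end CfsgLib.CentralType
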