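import Cfsg.Agent.Lib.CentralType.Radical
import Cfsg.Agent.Lib.CentralType.Forms
import Cfsg.Agent.Lib.Structure.MinimalNormal
import Mathlib.GroupTheory.Focal

/-!
# A good prime excludes a semisimple group of central type
-/

set_option autoImplicit false
set_option linter.unusedSectionVars false
set_option linter.style.haveILetI false

noncomputable section

namespace CfsgLib.CentralType

open Cfsg CfsgLib.Structure
open scoped commutatorElement

universe u

theorem Good.of_equiv {T T' : Type u} [Group T] [Group T'] [Finite T] [Finite T'] {p : ℕ}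
    [Fact p.Prime] (h : Good T p) (e : T ≃* T') : Good T' p := by
  intro E _ _ π hπ hker hcyc S x y hx hy
  have hk : (e.symm.toMonoidHom.comp π).ker = π.ker := by
    ext u
    simp [MonoidHom.mem_ker]
  obtain ⟨R, hR⟩ := (S.2.map e.symm.toMonoidHom).exists_le_sylow
  exact h E (e.symm.toMonoidHom.comp π) (e.symm.surjective.comp hπ) (hk ▸ hker)
    (by rw [hk]; exact hcyc) R x y (hR ⟨_, hx, rfl⟩) (hR ⟨_, hy, rfl⟩)

/-- The index in a product with a normal subgroup. -/
theorem relIndex_self_sup_of_normal {G : Type*} [Group G] [Finite G] (H K : Subgroup G) [K.Normal] :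
    H.relIndex (H ⊔ K) = H.relIndex K := by
  have hcard : ∀ A B : Subgroup G, A ≤ B → Nat.card A * A.relIndex B = Nat.card B := fun A B hAB => by
    rw [← Nat.card_congr (Subgroup.subgroupOfEquivOfLe hAB).toEquiv]
    exact (A.subgroupOf B).card_mul_index
  have h1 := hcard H (H ⊔ K) le_sup_left
  have h2 := hcard K (H ⊔ K) le_sup_right
  have h3 := hcard (H ⊓ K) H inf_le_left
  have h4 := hcard (H ⊓ K) K inf_le_right
  rw [Subgroup.relIndex_sup_right] at h2
  rw [Subgroup.inf_relIndex_left] at h3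
  rw [Subgroup.inf_relIndex_right] at h4
  refine Nat.eq_of_mul_eq_mul_left (Nat.card_pos (α := H)) ?_
  rw [h1, ← h2, ← h4, mul_right_comm, h3]

/-- The intersection of a Sylow subgroup with a product of normal subgroups. -/
theorem sylow_inf_sup_le {G : Type*} [Group G] [Finite G] {p : ℕ} [Fact p.Prime] (P : Sylow p G)
    (A B : Subgroup G) [A.Normal] [B.Normal] :
    (P : Subgroup G) ⊓ (A ⊔ B) ≤ ((P : Subgroup G) ⊓ A) ⊔ ((P : Subgroup G) ⊓ B) := by
  have hdvd : ∀ (K : Subgroup G) [K.Normal], ¬ p ∣ ((P : Subgroup G) ⊓ K).relIndex K := by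
    intro K _ h
    rw [Subgroup.inf_relIndex_right, ← relIndex_self_sup_of_normal] at h
    exact P.not_dvd_index (h.trans (Subgroup.relIndex_dvd_index_of_le le_sup_left))
  set W := ((P : Subgroup G) ⊓ A) ⊔ ((P : Subgroup G) ⊓ B) with hW
  set M := A ⊔ ((P : Subgroup G) ⊓ B) with hM
  have hWM : W ≤ M := sup_le_sup_right inf_le_right _
  have hMAB : M ≤ A ⊔ B := sup_le_sup_left inf_le_right _
  have hWP : W ≤ (P : Subgroup G) := sup_le inf_le_left inf_le_left
  have h1 : ¬ p ∣ M.relIndex (A ⊔ B) := by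
    intro h
    have e : M ⊔ B = A ⊔ B := by
      rw [hM, sup_assoc, sup_eq_right.2 (inf_le_right : (P : Subgroup G) ⊓ B ≤ B)]
    rw [← e, relIndex_self_sup_of_normal] at h
    exact hdvd B (h.trans (Subgroup.relIndex_dvd_of_le_left B le_sup_right))
  have h2 : ¬ p ∣ W.relIndex M := by
    intro h
    have e : W ⊔ A = M := by
      rw [hW, hM, sup_comm, ← sup_assoc, sup_eq_left.2 (inf_le_right : (P : Subgroup G) ⊓ A ≤ A)]
    rw [← e, relIndex_self_sup_of_normal] at h
    exact hdvd A (h.trans (Subgroup.relIndex_dvd_of_le_left A le_sup_left))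
  rw [← Subgroup.relIndex_eq_one]
  set L := (P : Subgroup G) ⊓ (A ⊔ B) with hL
  have hWL : W ≤ L := le_inf hWP (hWM.trans hMAB)
  obtain ⟨k, hk⟩ := (P.2.to_le (inf_le_left : L ≤ P)).exists_card_eq
  have hd : W.relIndex L ∣ p ^ k := hk ▸ (Subgroup.index_dvd_card (W.subgroupOf L))
  obtain ⟨j, -, hj⟩ := (Nat.dvd_prime_pow Fact.out).1 hd
  rcases Nat.eq_zero_or_pos j with rfl | hj0
  · rw [hj, pow_zero]
  · exfalso
    have hp : p ∣ W.relIndex L := hj ▸ dvd_pow_self p hj0.ne'
    have h3 : p ∣ W.relIndex (A ⊔ B) := by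
      rw [← Subgroup.relIndex_mul_relIndex W L (A ⊔ B) hWL inf_le_right]
      exact dvd_mul_of_dvd_left hp _
    rw [← Subgroup.relIndex_mul_relIndex W M (A ⊔ B) hWM hMAB] at h3
    exact ((Fact.out : p.Prime).dvd_mul.1 h3).elim h2 h1

namespace CT

variable {Γ : Type u} [Group Γ] [Fintype Γ] {Z : Subgroup Γ} {χ : IrrCharacter Γ} (h : CT Z χ)

include h

/-- `Z` is cyclic. -/
theorem isCyclic : IsCyclic Z :=
  isCyclic_of_subgroup_isDomain ((Units.coeHom ℂ).comp h.lam)
    fun a b hab => h.lam_injective (Units.ext hab)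

/-- A good prime dividing a non-abelian minimal normal subgroup gives a contradiction. -/
theorem false_of_good [Z.Normal] (hAb : AbSyl (Γ ⧸ Z)) {N : Subgroup (Γ ⧸ Z)}
    (hN : IsMinNormal N) (hna : ¬ IsMulCommutative N) {A : Subgroup N} (hA : IsMinNormal A)
    {p : ℕ} [Fact p.Prime] (hgood : Good A p) (hdvd : p ∣ Nat.card A) : False := by
  classical
  haveI hNn := hN.normal
  have hp : p.Prime := Fact.out
  let mk := QuotientGroup.mk' Z
  have hmk : Function.Surjective mk := QuotientGroup.mk'_surjective Z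
  have hmk1 : ∀ u, mk u = 1 ↔ u ∈ Z := fun u => QuotientGroup.eq_one_iff u
  have hzc : ∀ z ∈ Z, ∀ g : Γ, g * z = z * g := fun z hz g =>
    Subgroup.mem_center_iff.1 (h.central hz) g
  -- `N` is perfect
  have hperf : _root_.commutator N = ⊤ := by
    haveI : ((_root_.commutator N).map N.subtype).Normal := inferInstance
    rcases hN.2.2 ((_root_.commutator N).map N.subtype) inferInstance
      (Subgroup.map_subtype_le _) with h0 | h0
    · exfalso
      refine hna ⟨⟨fun a b => commutatorElement_eq_one_iff_mul_comm.1 ?_⟩⟩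
      have : ⁅a, b⁆ ∈ _root_.commutator N :=
        Subgroup.commutator_mem_commutator (Subgroup.mem_top a) (Subgroup.mem_top b)
      rwa [(Subgroup.map_eq_bot_iff_of_injective _ N.subtype_injective).1 h0,
        Subgroup.mem_bot] at this
    · refine Subgroup.map_injective N.subtype_injective ?_
      rw [h0, ← MonoidHom.range_eq_map, Subgroup.range_subtype]
  obtain ⟨R⟩ : Nonempty (Sylow p N) := inferInstance
  obtain ⟨P, hP⟩ := R.exists_comap_subtype_eq
  -- lifts of the elements of a subset of `N`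
  let lift : N → Γ := fun q => Function.surjInv hmk (q : Γ ⧸ Z)
  have hlift : ∀ q : N, mk (lift q) = q := fun q => Function.surjInv_eq hmk _
  have hlc : ∀ (u v : Γ) (q : N), mk v = q → (u * v = v * u ↔ u * lift q = lift q * u) := by
    intro u v q hv
    obtain ⟨z, hz, rfl⟩ : ∃ z ∈ Z, v = lift q * z :=
      ⟨(lift q)⁻¹ * v, (hmk1 _).1 (by rw [map_mul, map_inv, hlift, hv, inv_mul_cancel]), by simp⟩
    constructor
    · intro h1
      rw [← mul_assoc] at h1
      calc u * lift q = u * lift q * z * z⁻¹ := by group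
        _ = lift q * (z * u) * z⁻¹ := by rw [h1]; group
        _ = lift q * u := by rw [← hzc z hz u]; group
    · intro h1
      rw [← mul_assoc, h1, mul_assoc, hzc z hz u, mul_assoc]
  -- elements of `N` whose lifts commute with `u`
  let K : Γ → Subgroup N := fun u =>
    ((Subgroup.centralizer ({u} : Set Γ)).map mk).comap N.subtype
  have hK : ∀ u (q : N), q ∈ K u ↔ u * lift q = lift q * u := by
    intro u q
    constructor
    · rintro ⟨v, hv, hvq⟩
      exact (hlc u v q hvq).1 (Subgroup.mem_centralizer_singleton_iff.1 hv).symm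
    · intro h1
      exact ⟨lift q, Subgroup.mem_centralizer_singleton_iff.2 h1.symm, hlift q⟩
  have hKsymm : ∀ q r : N, q ∈ K (lift r) → r ∈ K (lift q) := fun q r hq =>
    (hK _ _).2 ((hK _ _).1 hq).symm
  -- a Sylow subgroup of `N` is generated by those of the factors
  let RB : {B : Subgroup N // IsMinNormal B} → Subgroup N := fun B => (R : Subgroup N) ⊓ B.1
  have hgen : (R : Subgroup N) ≤ ⨆ B, RB B := by
    have hfin : ∀ s : Finset {B : Subgroup N // IsMinNormal B},
        (s.sup fun B => B.1).Normal ∧ (R : Subgroup N) ⊓ s.sup (fun B => B.1) ≤ ⨆ B, RB B := by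
      intro s
      induction s using Finset.induction_on with
      | empty =>
        rw [Finset.sup_empty, inf_bot_eq]
        exact ⟨inferInstance, bot_le⟩
      | insert B s hBs ih =>
        rw [Finset.sup_insert]
        haveI := B.2.normal
        haveI := ih.1
        exact ⟨inferInstance,
          (sylow_inf_sup_le R B.1 _).trans (sup_le (le_iSup RB B) ih.2)⟩
    haveI : Fintype {B : Subgroup N // IsMinNormal B} := Fintype.ofFinite _
    have htop : (Finset.univ.sup fun B : {B : Subgroup N // IsMinNormal B} => B.1) = ⊤ := by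
      rw [← top_le_iff, ← hN.socle_eq_top]
      exact sSup_le fun B hB =>
        Finset.le_sup (f := fun B : {B : Subgroup N // IsMinNormal B} => B.1)
          (Finset.mem_univ ⟨B, hB⟩)
    have := (hfin Finset.univ).2
    rwa [htop, inf_top_eq] at this
  -- the lifts of two factors
  have hfac : ∀ B C : {B : Subgroup N // IsMinNormal B}, ∀ q ∈ RB B, RB C ≤ K (lift q) := by
    intro B C q hq r hr
    haveI := B.2.normal
    let EB : Subgroup Γ := ((B.1).map N.subtype).comap mk
    let Bs : Subgroup (Γ ⧸ Z) := (B.1).map N.subtype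
    let π : EB →* Bs := (mk.comp EB.subtype).codRestrict Bs fun x => x.2
    have hπ : Function.Surjective π := by
      rintro ⟨b, hb⟩
      obtain ⟨x, rfl⟩ := hmk b
      exact ⟨⟨x, hb⟩, rfl⟩
    have hkerZ : ∀ x : EB, x ∈ π.ker ↔ (x : Γ) ∈ Z := fun x =>
      ⟨fun hx => (hmk1 _).1 (congrArg Subtype.val (MonoidHom.mem_ker.1 hx)),
        fun hx => MonoidHom.mem_ker.2 (Subtype.ext ((hmk1 _).2 hx))⟩
    by_cases hBC : B = C
    · subst hBC
      obtain ⟨g, hg⟩ := hN.exists_conj_eq hna hA B.2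
      let e : A ≃* Bs := ((A.equivMapOfInjective _ (conjAut N g).injective).trans
        (MulEquiv.subgroupCongr hg)).trans (B.1.equivMapOfInjective _ N.subtype_injective)
      have hker : π.ker ≤ Subgroup.center EB := fun x hx => Subgroup.mem_center_iff.2 fun y =>
        Subtype.ext (hzc x ((hkerZ x).1 hx) y)
      haveI : IsCyclic Z := h.isCyclic
      have hcyc : IsCyclic π.ker := isCyclic_of_injective
        (((EB.subtype).comp π.ker.subtype).codRestrict Z fun x => (hkerZ x.1).1 x.2)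
        fun x y hxy => Subtype.ext (Subtype.ext (congrArg (fun w : Z => (w : Γ)) hxy))
      have hS : IsPGroup p ((RB B).map N.subtype) := (R.2.to_le inf_le_left).map _
      obtain ⟨S, hS'⟩ := (hS.comap_subtype (K := Bs)).exists_le_sylow
      have hmemS : ∀ s ∈ RB B, ∀ x : EB, mk (x : Γ) = (s : Γ ⧸ Z) → π x ∈ S := by
        intro s hs x hx
        refine hS' ?_
        show ((π x : Bs) : Γ ⧸ Z) ∈ (RB B).map N.subtype
        exact ⟨s, hs, hx.symm⟩
      have hq' : lift q ∈ EB := ⟨q, hq.2, (hlift q).symm⟩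
      have hr' : lift r ∈ EB := ⟨r, hr.2, (hlift r).symm⟩
      exact (hK _ _).2 (congrArg Subtype.val (hgood.of_equiv e EB π hπ hker hcyc S
        ⟨_, hq'⟩ ⟨_, hr'⟩ (hmemS q hq _ (hlift q)) (hmemS r hr _ (hlift r))))
    · have hcomm : ∀ x : EB, ⁅(x : Γ), lift r⁆ ∈ Z := by
        intro x
        obtain ⟨b, hb, hbx⟩ := x.2
        refine (hmk1 _).1 ?_
        rw [map_commutatorElement, hlift, ← hbx, commutatorElement_eq_one_iff_mul_comm]
        exact congrArg Subtype.val (B.2.commute C.2 (fun e => hBC (Subtype.ext e)) b hb r hr.2).eq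
      let φ : EB →* Z := MonoidHom.mk' (fun x => ⟨⁅(x : Γ), lift r⁆, hcomm x⟩) fun x y =>
        Subtype.ext (by
          show ⁅(x : Γ) * y, lift r⁆ = ⁅(x : Γ), lift r⁆ * ⁅(y : Γ), lift r⁆
          have hz := hzc _ (hcomm y)
          calc ⁅(x : Γ) * y, lift r⁆
              = (x : Γ) * ⁅(y : Γ), lift r⁆ * (x : Γ)⁻¹ * ⁅(x : Γ), lift r⁆ := by
                simp only [commutatorElement_def]; group
            _ = ⁅(x : Γ), lift r⁆ * ⁅(y : Γ), lift r⁆ := by
              rw [hz (x : Γ), mul_inv_cancel_right, hz ⁅(x : Γ), lift r⁆])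
      haveI := hN.isSimpleGroup_minNormal B.2
      have hBna := hN.not_isMulCommutative_minNormal hna B.2
      haveI : Nontrivial Bs :=
        (B.1.equivMapOfInjective _ N.subtype_injective).toEquiv.symm.nontrivial
      haveI : IsSimpleGroup Bs :=
        IsSimpleGroup.isSimpleGroup_of_surjective
          (f := (B.1.equivMapOfInjective _ N.subtype_injective).toMonoidHom)
          (B.1.equivMapOfInjective _ N.subtype_injective).surjective
      have hKtop : φ.ker.map π = ⊤ := by
        haveI : (φ.ker.map π).Normal := Subgroup.Normal.map inferInstance π hπ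
        refine ((inferInstance : (φ.ker.map π).Normal).eq_bot_or_eq_top).resolve_left fun h0 => ?_
        refine hBna ⟨⟨fun a b => ?_⟩⟩
        let e := B.1.equivMapOfInjective _ N.subtype_injective
        refine e.injective ?_
        obtain ⟨x, hx⟩ := hπ (e a)
        obtain ⟨y, hy⟩ := hπ (e b)
        rw [map_mul, map_mul, ← hx, ← hy, ← commutatorElement_eq_one_iff_mul_comm,
          ← map_commutatorElement, ← Subgroup.mem_bot, ← h0]
        refine ⟨⁅x, y⁆, ?_, rfl⟩
        rw [SetLike.mem_coe, MonoidHom.mem_ker, map_commutatorElement,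
          commutatorElement_eq_one_iff_mul_comm]
        exact Subtype.ext (hzc _ (φ y).2 _)
      obtain ⟨k, hk, hkq⟩ :=
        (hKtop.ge (Subgroup.mem_top (⟨(q : Γ ⧸ Z), q, hq.2, rfl⟩ : Bs)))
      have hk1 : (k : Γ) * lift r = lift r * k :=
        commutatorElement_eq_one_iff_mul_comm.1 (congrArg Subtype.val (MonoidHom.mem_ker.1 hk))
      exact (hK _ _).2 ((hlc _ _ q (congrArg Subtype.val hkq)).1 hk1.symm).symm
  have hR1 : ∀ q ∈ (R : Subgroup N), (R : Subgroup N) ≤ K (lift q) := by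
    have h1 : ∀ B, ∀ q ∈ RB B, (R : Subgroup N) ≤ K (lift q) := fun B q hq =>
      hgen.trans (iSup_le fun C => hfac B C q hq)
    intro q hq
    exact hgen.trans (iSup_le fun B r hr => hKsymm _ _ (h1 B r hr hq))
  -- the Sylow subgroup is abelian
  haveI hRc : IsMulCommutative (R : Subgroup N) := ⟨⟨fun a b => Subtype.ext (Subtype.ext (by
    show ((a : N) : Γ ⧸ Z) * (b : N) = (b : N) * (a : N)
    rw [← hlift a, ← hlift b, ← map_mul, ← map_mul, (hK _ _).1 (hR1 _ a.2 b.2)]))⟩⟩
  set R' := (R : Subgroup N).map N.subtype with hR'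
  have hR'P : R' ≤ (P : Subgroup (Γ ⧸ Z)) := by
    rintro _ ⟨q, hq, rfl⟩
    rw [← hP] at hq
    exact hq
  -- elements centralising the Sylow subgroup of `N` centralise its lifts
  have hcen : ∀ X : Γ, (∀ q ∈ (R : Subgroup N), mk X * (q : Γ ⧸ Z) = q * mk X) →
      (R : Subgroup N) ≤ K X := by
    -- the case of elements of `N`
    have hinN : ∀ c : Γ, mk c ∈ N → (∀ q ∈ (R : Subgroup N), mk c * (q : Γ ⧸ Z) = q * mk c) →
        (R : Subgroup N) ≤ K c := by
      intro c hc hcq q hq
      let Cn : Subgroup N := Subgroup.centralizer ((R : Subgroup N) : Set N)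
      have hRC : (R : Subgroup N) ≤ Cn := fun a ha => Subgroup.mem_centralizer_iff.2 fun b hb =>
        congrArg Subtype.val (hRc.is_comm.comm (⟨b, hb⟩ : (R : Subgroup N)) ⟨a, ha⟩)
      haveI : ((R : Subgroup N).subgroupOf Cn).Normal := ⟨fun a ha g => by
        have : g * a * g⁻¹ = a := Subtype.ext (by
          have h1 : (a : N) * (g : N) = (g : N) * (a : N) :=
            Subgroup.mem_centralizer_iff.1 g.2 _ ha
          simp only [Subgroup.coe_mul, InvMemClass.coe_inv, ← h1, mul_inv_cancel_right])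
        rw [this]; exact ha⟩
      have hcC : (⟨mk c, hc⟩ : N) ∈ Cn :=
        Subgroup.mem_centralizer_iff.2 fun b hb => Subtype.ext (hcq b hb).symm
      set m := (R : Subgroup N).relIndex Cn with hm
      have hmp : ¬ p ∣ m := fun h1 => R.not_dvd_index (h1.trans (Subgroup.relIndex_dvd_index_of_le hRC))
      have hcm : (⟨mk c, hc⟩ : N) ^ m ∈ (R : Subgroup N) :=
        ((R : Subgroup N).subgroupOf Cn).pow_index_mem ⟨_, hcC⟩
      obtain ⟨k, hk⟩ := R.2 ⟨q, hq⟩
      set z := ⁅c, lift q⁆ with hz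
      have hzZ : z ∈ Z := (hmk1 _).1 (by
        rw [map_commutatorElement, hlift, commutatorElement_eq_one_iff_mul_comm]
        exact hcq q hq)
      have hconj : c * lift q * c⁻¹ = z * lift q := by
        simp [hz, commutatorElement_def, mul_assoc]
      have hconj' : ∀ n : ℕ, c ^ n * lift q * (c ^ n)⁻¹ = z ^ n * lift q := by
        intro n
        induction n with
        | zero => simp
        | succ n ih =>
          calc c ^ (n + 1) * lift q * (c ^ (n + 1))⁻¹
              = c * (c ^ n * lift q * (c ^ n)⁻¹) * c⁻¹ := by rw [pow_succ']; group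
            _ = c * z ^ n * lift q * c⁻¹ := by rw [ih]; group
            _ = z ^ n * (c * lift q * c⁻¹) := by
              rw [hzc _ (pow_mem hzZ n) c]; group
            _ = z ^ (n + 1) * lift q := by rw [hconj, pow_succ]; group
      have hzm : z ^ m = 1 := by
        have h1 := (hK _ _).1 (hR1 q hq hcm)
        have h2 := (hlc (lift q) (c ^ m) _ (by simp [map_pow])).2 h1
        have h3 := hconj' m
        rw [← h2, mul_inv_cancel_right] at h3
        exact mul_eq_right.1 h3.symm
      have hzp : z ^ p ^ k = 1 := by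
        have hqk : lift q ^ p ^ k ∈ Z := (hmk1 _).1 (by
          rw [map_pow, hlift]
          exact congrArg (fun w : (R : Subgroup N) => ((w : N) : Γ ⧸ Z)) hk)
        have h1 : (z * lift q) ^ p ^ k = lift q ^ p ^ k := by
          rw [← hconj, conj_pow, hzc _ hqk c, mul_inv_cancel_right]
        rw [(show Commute z (lift q) from (hzc z hzZ (lift q)).symm).mul_pow, mul_eq_right] at h1
        exact h1
      have hz1 : z = 1 := orderOf_eq_one_iff.1 (Nat.eq_one_of_dvd_coprimes
        ((Nat.Coprime.pow_left k ((hp.coprime_iff_not_dvd).2 hmp))) (orderOf_dvd_of_pow_eq_one hzp)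
        (orderOf_dvd_of_pow_eq_one hzm))
      exact (hK _ _).2 (commutatorElement_eq_one_iff_mul_comm.1 hz1)
    intro X hX
    have hfoc := Subgroup.commutator_inf_eq_focalSubgroup R
    rw [hperf, top_inf_eq] at hfoc
    rw [hfoc]
    refine (Subgroup.closure_le _).2 ?_
    rintro g ⟨hgR, x, hx, u, rfl⟩
    have hy : u * x⁻¹ * u⁻¹ ∈ (R : Subgroup N) := by
      rw [show u * x⁻¹ * u⁻¹ = x⁻¹ * ⁅x, u⁆ by simp [commutatorElement_def, mul_assoc]]
      exact mul_mem (inv_mem hx) hgR
    obtain ⟨n, hn, he⟩ := R.conj_eq_normalizer_conj_of_mem x⁻¹ u⁻¹ (inv_mem hx)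
      (by rwa [inv_inv])
    rw [inv_inv] at he
    set ñ := lift n⁻¹ with hñ
    have hmkn : mk ñ = (n : Γ ⧸ Z)⁻¹ := by rw [hñ, hlift]; rfl
    set c := ñ⁻¹ * X * ñ * X⁻¹ with hc
    have hmkc : mk c = (n : Γ ⧸ Z) * (mk X * (n : Γ ⧸ Z)⁻¹ * (mk X)⁻¹) := by
      simp [hc, hmkn, map_mul, map_inv, mul_assoc]
    have hcN : mk c ∈ N := by
      rw [hmkc]
      exact mul_mem n.2 (hNn.conj_mem _ (inv_mem n.2) _)
    have hccen : ∀ q ∈ (R : Subgroup N), mk c * (q : Γ ⧸ Z) = q * mk c := by
      intro q hq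
      have h1 : (n⁻¹ * q * n : N) ∈ (R : Subgroup N) :=
        (Subgroup.mem_normalizer_iff''.1 hn q).1 hq
      have h2 : mk X * ((n : Γ ⧸ Z)⁻¹ * q * n) = (n : Γ ⧸ Z)⁻¹ * q * n * mk X := hX _ h1
      have h3 : mk X * (q : Γ ⧸ Z) = q * mk X := hX q hq
      have h4 : (mk X)⁻¹ * (q : Γ ⧸ Z) = q * (mk X)⁻¹ := by
        rw [inv_mul_eq_iff_eq_mul, ← mul_assoc, h3, mul_inv_cancel_right]
      rw [hmkc]
      calc (n : Γ ⧸ Z) * (mk X * (n : Γ ⧸ Z)⁻¹ * (mk X)⁻¹) * q
          = n * mk X * (n : Γ ⧸ Z)⁻¹ * ((mk X)⁻¹ * q) := by group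
        _ = n * (mk X * ((n : Γ ⧸ Z)⁻¹ * q * n)) * (n : Γ ⧸ Z)⁻¹ * (mk X)⁻¹ := by
          rw [h4]; group
        _ = q * (n * (mk X * (n : Γ ⧸ Z)⁻¹ * (mk X)⁻¹)) := by rw [h2]; group
    -- the pairing with `X` is invariant
    have hz : ∀ q ∈ (R : Subgroup N), ⁅X, lift q⁆ ∈ Z := fun q hq => (hmk1 _).1 (by
      rw [map_commutatorElement, hlift, commutatorElement_eq_one_iff_mul_comm]
      exact hX q hq)
    set w := lift x with hw
    have hzx := hz x hx
    have hcw : c * w = w * c := (hK _ _).1 (hinN c hcN hccen hx)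
    have hkey : ⁅X, ñ * w * ñ⁻¹⁆ = ⁅X, w⁆ := by
      have e1 : ⁅X, ñ * w * ñ⁻¹⁆ = ñ * ⁅c * X, w⁆ * ñ⁻¹ := by
        simp only [hc, commutatorElement_def]; group
      have e2 : ⁅c * X, w⁆ = c * ⁅X, w⁆ * c⁻¹ * ⁅c, w⁆ := by
        simp only [commutatorElement_def]; group
      rw [e1, e2, commutatorElement_eq_one_iff_mul_comm.2 hcw, mul_one, hzc _ hzx c,
        mul_inv_cancel_right, hzc _ hzx ñ, mul_inv_cancel_right]
    -- so `X` commutes with a lift of the generator
    refine (hK _ _).2 ((hlc X (w * (ñ * w * ñ⁻¹)⁻¹) ⁅x, u⁆ ?_).1 ?_)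
    · rw [map_mul, map_inv, map_mul, map_mul, map_inv, hmkn, hw, hlift]
      have e : ⁅x, u⁆ = x * (n⁻¹ * x⁻¹ * n) := by
        rw [← he]; simp [commutatorElement_def, mul_assoc]
      rw [e]
      simp [mul_assoc]
    · rw [← commutatorElement_eq_one_iff_mul_comm]
      set v := ñ * w * ñ⁻¹
      have hzv : ⁅X, v⁆ ∈ Z := hkey ▸ hzx
      calc ⁅X, w * v⁻¹⁆ = ⁅X, w⁆ * (w * v⁻¹ * ⁅X, v⁆⁻¹ * v * w⁻¹) := by
            simp only [commutatorElement_def]; group
        _ = 1 := by
          rw [hkey] at hzv ⊢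
          rw [mul_assoc w v⁻¹ ⁅X, w⁆⁻¹, hzc _ (inv_mem hzv) v⁻¹]
          rw [show w * (⁅X, w⁆⁻¹ * v⁻¹) * v * w⁻¹ = w * ⁅X, w⁆⁻¹ * w⁻¹ by group,
            hzc _ (inv_mem hzv) w, mul_inv_cancel_right, mul_inv_cancel]
  -- the norm inequality in a Sylow subgroup
  let R'' := R'.subgroupOf (P : Subgroup (Γ ⧸ Z))
  haveI : R''.Normal := ⟨fun a ha g => by
    obtain ⟨q, hq, hqa⟩ := ha
    have hmem : ((g * a * g⁻¹ : (P : Subgroup (Γ ⧸ Z))) : Γ ⧸ Z) ∈ N := by
      show (g : Γ ⧸ Z) * a * (g : Γ ⧸ Z)⁻¹ ∈ N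
      exact hNn.conj_mem _ (by rw [← show (q : Γ ⧸ Z) = a from hqa]; exact q.2) _
    exact ⟨⟨_, hmem⟩, hP ▸ (g * a * g⁻¹).2, rfl⟩⟩
  let f : (P : Subgroup (Γ ⧸ Z)) →* MulAut R'' := MulAut.conjNormal
  obtain ⟨a, ha⟩ := R.2.exists_card_eq
  have hcardR : Nat.card R'' = p ^ a := by
    rw [Nat.card_congr (Subgroup.subgroupOfEquivOfLe hR'P).toEquiv,
      Subgroup.card_map_of_injective N.subtype_injective, ha]
  have ha0 : a ≠ 0 := by
    intro h0
    have h1 : p ∣ Nat.card N := hdvd.trans A.card_subgroup_dvd_card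
    have h2 := (R : Subgroup N).card_mul_index
    rw [ha, h0, pow_zero, one_mul] at h2
    exact R.not_dvd_index (h2 ▸ h1)
  set T := (P : Subgroup (Γ ⧸ Z)).comap mk with hT
  haveI : Fintype T := Fintype.ofFinite T
  have hZT : Z ≤ T := fun z hz => show mk z ∈ (P : Subgroup (Γ ⧸ Z)) by
    rw [(hmk1 z).2 hz]; exact one_mem _
  have hrel : ∀ U : Subgroup (Γ ⧸ Z), Z.relIndex (U.comap mk) = Nat.card U := by
    intro U
    have h1 := Subgroup.relIndex_comap (⊥ : Subgroup (Γ ⧸ Z)) mk (U.comap mk)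
    rw [MonoidHom.comap_bot, QuotientGroup.ker_mk', Subgroup.map_comap_eq_self_of_surjective hmk,
      Subgroup.relIndex_bot_left] at h1
    exact h1
  obtain ⟨η, hη⟩ := h.sylow p T hZT ⟨_, (hrel P).trans P.2.exists_card_eq.choose_spec⟩
    (by rw [hT, Subgroup.index_comap_of_surjective _ hmk]; exact P.not_dvd_index)
  let C' : Subgroup (Γ ⧸ Z) := f.ker.map (P : Subgroup (Γ ⧸ Z)).subtype
  have hfk : ∀ (x : (P : Subgroup (Γ ⧸ Z))), x ∈ f.ker ↔
      ∀ q ∈ (R : Subgroup N), (x : Γ ⧸ Z) * q = q * x := by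
    intro x
    constructor
    · intro hx q hq
      have h1 := congrArg (fun w : R'' => ((w : (P : Subgroup (Γ ⧸ Z))) : Γ ⧸ Z))
        (MulEquiv.congr_fun (MonoidHom.mem_ker.1 hx)
          (⟨⟨q, hR'P ⟨q, hq, rfl⟩⟩, ⟨q, hq, rfl⟩⟩ : R''))
      simp only [MulAut.conjNormal_apply, MulAut.one_apply, Subgroup.coe_mul,
        InvMemClass.coe_inv, f] at h1
      exact mul_inv_eq_iff_eq_mul.1 h1
    · intro hx
      refine MulEquiv.ext fun r => ?_
      obtain ⟨q, hq, hqr⟩ := r.2
      apply Subtype.ext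
      apply Subtype.ext
      simp only [MulAut.conjNormal_apply, MulAut.one_apply, Subgroup.coe_mul,
        InvMemClass.coe_inv, f]
      have hqr' : (q : Γ ⧸ Z) = ((r : (P : Subgroup (Γ ⧸ Z))) : Γ ⧸ Z) := hqr
      rw [← hqr', hx q hq, mul_inv_cancel_right]
  have hRC' : R' ≤ C' := by
    rintro _ ⟨q, hq, rfl⟩
    refine ⟨⟨(q : Γ ⧸ Z), hR'P ⟨q, hq, rfl⟩⟩, (hfk _).2 fun r hr => ?_, rfl⟩
    exact congrArg (fun w : (R : Subgroup N) => ((w : N) : Γ ⧸ Z))
      (hRc.is_comm.comm ⟨q, hq⟩ ⟨r, hr⟩)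
  have hC'P : C' ≤ (P : Subgroup (Γ ⧸ Z)) := Subgroup.map_subtype_le _
  have hineq := hη.relIndex_mul_le ((R'.comap mk).subgroupOf T) ((C'.comap mk).subgroupOf T)
    (fun z hz => show mk (z : Γ) ∈ R' by rw [(hmk1 (z : Γ)).2 hz]; exact one_mem _)
    (fun z hz => hRC' hz) (by
      intro s hs t ht
      obtain ⟨q, hq, hqs⟩ := hs
      obtain ⟨x, hx, hxt⟩ := ht
      have hxt' : (x : Γ ⧸ Z) = mk (t : Γ) := hxt
      have h1 := (hK _ _).1 (hcen (t : Γ) (fun r hr => by
        rw [← hxt']; exact (hfk x).1 hx r hr) hq)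
      exact Subtype.ext ((hlc (t : Γ) (s : Γ) q hqs.symm).2 h1).symm)
  have hRT : R'.comap mk ≤ T := fun z hz => hR'P hz
  have hCT : C'.comap mk ≤ T := fun z hz => hC'P hz
  rw [Subgroup.relIndex_subgroupOf hRT, Subgroup.relIndex_subgroupOf hCT, hrel, hrel,
    show (Z.subgroupOf T).index = Z.relIndex T from rfl, hT, hrel, Subgroup.card_map_of_injective N.subtype_injective, ha,
    Subgroup.card_map_of_injective (Subgroup.subtype_injective _)] at hineq
  have hcardP := f.ker.card_mul_index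
  rw [Subgroup.index_ker, mul_comm] at hcardP
  rw [← hcardP] at hineq
  have hrange : p ^ a ≤ Nat.card f.range := Nat.le_of_mul_le_mul_right hineq Nat.card_pos
  have hker : p ^ a ≤ Nat.card f.ker := by
    have := Nat.le_of_dvd Nat.card_pos (Subgroup.card_dvd_of_le hRC')
    rwa [Subgroup.card_map_of_injective N.subtype_injective, ha,
      Subgroup.card_map_of_injective (Subgroup.subtype_injective _)] at this
  by_cases h6 : p ^ 6 ∣ Nat.card (Γ ⧸ Z)
  · have hPc := hAb p hp h6 P
    have : f.ker = ⊤ := by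
      refine eq_top_iff.2 fun x _ => (hfk x).2 fun q hq => ?_
      exact congrArg Subtype.val (hPc.is_comm.comm x ⟨q, hR'P ⟨q, hq, rfl⟩⟩)
    rw [← Subgroup.index_ker, this, Subgroup.index_top] at hrange
    exact absurd hrange (not_le.2 (Nat.one_lt_pow ha0 hp.one_lt))
  · obtain ⟨b, hb⟩ := P.2.exists_card_eq
    have hb6 : b < 6 := by
      by_contra! hb6
      refine h6 (dvd_trans (pow_dvd_pow p hb6) (hb ▸ ?_))
      exact Subgroup.card_subgroup_dvd_card _
    have ha2 : a ≤ 2 := by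
      have h1 : p ^ (a + a) ≤ p ^ b := by
        rw [pow_add, ← hb, ← hcardP]
        exact Nat.mul_le_mul hrange hker
      have := (Nat.pow_le_pow_iff_right hp.one_lt).1 h1
      omega
    have hlt := card_lt_of_isPGroup_aut hcardR ha0 ha2 f.range
      (P.2.of_surjective f.rangeRestrict f.rangeRestrict_surjective)
    rw [hcardR] at hlt
    exact absurd hrange (not_le.2 hlt)

end CT

end CfsgLib.CentralType
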