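import Cfsg.Agent.Lib.CentralType.Forms
import Cfsg.Agent.Lib.Transfer.Basic
import Mathlib.GroupTheory.SpecificGroups.Cyclic

/-!
# Sylow 2-subgroups of order sixteen
-/

set_option autoImplicit false
set_option linter.unusedSectionVars false
set_option linter.style.haveILetI false

namespace CfsgLib.CentralType

open Cfsg
open scoped commutatorElement

universe u

section Group

variable {P : Type u} [Group P] [Finite P]

/-- Squares in a group with centre of order four are central. -/
theorem sq_mem_center (h16 : Nat.card P = 16) (hna : ¬ ∀ a b : P, a * b = b * a)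
    (hZ : Nat.card (Subgroup.center P) = 4) (x : P) : x * x ∈ Subgroup.center P := by
  set mk := QuotientGroup.mk' (Subgroup.center P)
  have hQ : Nat.card (P ⧸ Subgroup.center P) = 4 := by
    have := (Subgroup.center P).card_mul_index
    rw [hZ, h16] at this
    show (Subgroup.center P).index = 4
    omega
  haveI : Fact (Nat.Prime 2) := ⟨Nat.prime_two⟩
  have hd : orderOf (mk x) ∣ 2 ^ 2 := by
    rw [show (2 : ℕ) ^ 2 = 4 from rfl, ← hQ]; exact orderOf_dvd_natCard _
  obtain ⟨j, hj, hj'⟩ := (Nat.dvd_prime_pow Nat.prime_two).1 hd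
  have hj2 : j ≠ 2 := by
    intro h2
    rw [h2] at hj'
    haveI : IsCyclic (P ⧸ Subgroup.center P) :=
      isCyclic_of_orderOf_eq_card (mk x) (by rw [hj', hQ]; rfl)
    exact hna fun a b =>
      commutative_of_cyclic_center_quotient mk (QuotientGroup.ker_mk' _).le a b
  refine (QuotientGroup.eq_one_iff _).1 ?_
  show mk (x * x) = 1
  rw [map_mul, ← pow_two]
  refine orderOf_dvd_iff_pow_eq_one.1 ?_
  rw [hj']
  exact (pow_dvd_pow 2 (show j ≤ 1 by omega)).trans (by norm_num)

/-- An abelian maximal subgroup with two fixed points gives a contradiction. -/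
theorem false_of_abelian_index_two (h8 : ∀ x : P, orderOf x ≠ 8) (C : Subgroup P) (hCi : C.index = 2)
    (hC8 : Nat.card C = 8) (hCc : ∀ a ∈ C, ∀ b ∈ C, a * b = b * a)
    (c0 : Subgroup.center P) (hc01 : c0 ≠ 1) (hc0 : ∀ y : Subgroup.center P, y ≠ 1 → y = c0)
    (x : P) (hxC : x ∉ C) : False := by
  classical
  haveI : Fact (Nat.Prime 2) := ⟨Nat.prime_two⟩
  have hpow4 : ∀ a ∈ C, (a * a) * (a * a) = 1 := by
    intro a ha
    have hd : orderOf (⟨a, ha⟩ : C) ∣ 2 ^ 3 := by
      rw [show (2 : ℕ) ^ 3 = 8 from rfl, ← hC8]; exact orderOf_dvd_natCard _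
    rw [Subgroup.orderOf_mk] at hd
    obtain ⟨i, hi, hi'⟩ := (Nat.dvd_prime_pow Nat.prime_two).1 hd
    have hi3 : i ≠ 3 := fun h => h8 a (by rw [hi', h]; rfl)
    have : a ^ 4 = 1 := orderOf_dvd_iff_pow_eq_one.1 (by
      rw [hi']; exact (pow_dvd_pow 2 (show i ≤ 2 by omega)).trans (by norm_num))
    rw [← this]; simp [pow_succ, mul_assoc]
  haveI hCn : C.Normal := Subgroup.normal_of_index_eq_two hCi
  have hxx : x * x ∈ C := Subgroup.sq_mem_of_index_two hCi x |> fun h => pow_two x ▸ h
  have hθC : ∀ a ∈ C, x * a * x⁻¹ ∈ C := fun a ha => hCn.conj_mem a ha x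
  have hθ2 : ∀ a ∈ C, x * (x * a * x⁻¹) * x⁻¹ = a := fun a ha => by
    calc x * (x * a * x⁻¹) * x⁻¹ = x * x * a * (x * x)⁻¹ := by group
      _ = a := by rw [hCc _ hxx a ha, mul_inv_cancel_right]
  -- the fixed points are central
  have hfix : ∀ a ∈ C, x * a * x⁻¹ = a → a = 1 ∨ a = c0 := by
    intro a ha hax
    have hz : a ∈ Subgroup.center P := Subgroup.mem_center_iff.2 fun y => by
      by_cases hy : y ∈ C
      · exact hCc y hy a ha
      · have hyx : y * x⁻¹ ∈ C :=
          (Subgroup.mul_mem_iff_of_index_two hCi).2 (by simp [hy, hxC])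
        calc y * a = y * x⁻¹ * (x * a * x⁻¹) * x := by group
          _ = a * (y * x⁻¹) * x := by rw [hax, hCc _ hyx a ha]
          _ = a * y := by group
    by_cases h1 : a = 1
    · exact Or.inl h1
    · exact Or.inr (congrArg Subtype.val (hc0 ⟨a, hz⟩ fun h => h1 (congrArg Subtype.val h)))
  let d : C →* C := MonoidHom.mk' (fun a => ⟨x * a * x⁻¹ * (a : P)⁻¹,
    mul_mem (hθC a a.2) (inv_mem a.2)⟩) fun a b => Subtype.ext (by
      show x * ((a : P) * b) * x⁻¹ * ((a : P) * b)⁻¹ =
        x * a * x⁻¹ * (a : P)⁻¹ * (x * b * x⁻¹ * (b : P)⁻¹)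
      have h1 := hCc _ (inv_mem a.2) _ (mul_mem (hθC b b.2) (inv_mem b.2))
      calc x * ((a : P) * b) * x⁻¹ * ((a : P) * b)⁻¹
          = x * a * x⁻¹ * (x * b * x⁻¹ * (b : P)⁻¹ * (a : P)⁻¹) := by group
        _ = _ := by rw [← h1]; group)
  have hkd : Nat.card d.ker ≤ 2 := by
    have hsub : ∀ a : d.ker, ((a : C) : P) = 1 ∨ ((a : C) : P) = c0 := fun a =>
      hfix _ (a : C).2 (mul_inv_eq_one.1 (congrArg Subtype.val (MonoidHom.mem_ker.1 a.2)))
    have := Nat.card_le_card_of_injective (fun a : d.ker => decide (((a : C) : P) = 1)) (by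
      intro a b hab
      have hc1 : (c0 : P) ≠ 1 := fun h => hc01 (Subtype.ext h)
      apply Subtype.ext; apply Subtype.ext
      rcases hsub a with ha | ha <;> rcases hsub b with hb | hb <;> simp_all)
    simpa using this
  have hrd := d.ker.card_mul_index
  rw [Subgroup.index_ker, hC8] at hrd
  have hr4 : 4 ≤ Nat.card d.range := by nlinarith
  have hinv : ∀ b : d.range, x * ((b : C) : P) * x⁻¹ = ((b : C) : P)⁻¹ := by
    rintro ⟨_, a, rfl⟩
    show x * (x * a * x⁻¹ * (a : P)⁻¹) * x⁻¹ = (x * a * x⁻¹ * (a : P)⁻¹)⁻¹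
    calc x * (x * a * x⁻¹ * (a : P)⁻¹) * x⁻¹
        = x * (x * a * x⁻¹) * x⁻¹ * (x * a * x⁻¹)⁻¹ := by group
      _ = (a : P) * (x * a * x⁻¹)⁻¹ := by rw [hθ2 _ a.2]
      _ = _ := by group
  -- some value of `d` has order four
  obtain ⟨⟨⟨b, hbC⟩, a, hab⟩, hb2⟩ : ∃ b : d.range, ((b : C) : P) * b ≠ 1 := by
    by_contra! h
    have hsub : ∀ b : d.range, ((b : C) : P) = 1 ∨ ((b : C) : P) = c0 := fun b =>
      hfix _ (b : C).2 ((hinv b).trans (inv_eq_of_mul_eq_one_right (h b)))
    have := Nat.card_le_card_of_injective (fun a : d.range => decide (((a : C) : P) = 1)) (by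
      intro a b hab
      have hc1 : (c0 : P) ≠ 1 := fun h => hc01 (Subtype.ext h)
      apply Subtype.ext; apply Subtype.ext
      rcases hsub a with ha | ha <;> rcases hsub b with hb | hb <;> simp_all)
    simp only [Nat.card_eq_fintype_card (α := Bool), Fintype.card_bool] at this
    omega
  have hbinv : x * b * x⁻¹ = b⁻¹ := hinv ⟨⟨b, hbC⟩, a, hab⟩
  -- an involution moved by `x`
  obtain ⟨e, heC, he2, he1, hec⟩ : ∃ e ∈ C, e * e = 1 ∧ e ≠ 1 ∧ e ≠ (c0 : P) := by
    have hbc : b * b = c0 := by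
      refine (hfix _ (mul_mem hbC hbC) ?_).resolve_left hb2
      calc x * (b * b) * x⁻¹ = (x * b * x⁻¹) * (x * b * x⁻¹) := by group
        _ = (b * b)⁻¹ := by rw [hbinv]; group
        _ = b * b := inv_eq_of_mul_eq_one_right (hpow4 b hbC)
    obtain ⟨q, hqC, hq⟩ : ∃ q ∈ C, q ∉ Subgroup.zpowers b := by
      by_contra! h
      have h1 := Subgroup.card_dvd_of_le (show C ≤ Subgroup.zpowers b from h)
      rw [Nat.card_zpowers, hC8] at h1
      have h2 : orderOf b ∣ 4 := orderOf_dvd_of_pow_eq_one (by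
        rw [← hpow4 b hbC]; simp [pow_succ, mul_assoc])
      exact absurd (Nat.le_of_dvd (by norm_num) (h1.trans h2)) (by norm_num)
    have hq2 : q * q = 1 ∨ q * q = c0 := by
      have hbord : orderOf b = 4 := by
        refine orderOf_eq_prime_pow (p := 2) (n := 1) (fun h => hb2 ?_) ?_
        · rwa [show (2 : ℕ) ^ 1 = 2 from rfl, pow_two] at h
        · rw [show (2 : ℕ) ^ (1 + 1) = 4 from rfl, ← hpow4 b hbC]; simp [pow_succ, mul_assoc]
      haveI : ((Subgroup.zpowers b).subgroupOf C).Normal :=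
        ⟨fun a ha g => by
          have : g * a * g⁻¹ = a := Subtype.ext (by
            show (g : P) * a * (g : P)⁻¹ = a
            rw [hCc _ g.2 _ a.2, mul_inv_cancel_right])
          rw [this]; exact ha⟩
      have hidx2 : ((Subgroup.zpowers b).subgroupOf C).index = 2 := by
        have h1 := ((Subgroup.zpowers b).subgroupOf C).card_mul_index
        rw [Nat.card_congr (Subgroup.subgroupOfEquivOfLe
          (Subgroup.zpowers_le.2 hbC)).toEquiv, Nat.card_zpowers, hbord, hC8] at h1
        omega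
      have hmem : q * q ∈ Subgroup.zpowers b := by
        have := Subgroup.sq_mem_of_index_two hidx2 (⟨q, hqC⟩ : C)
        rw [pow_two] at this
        exact this
      rw [← mem_powers_iff_mem_zpowers] at hmem
      obtain ⟨k, hk⟩ := hmem
      have hk' : b ^ (k % 4) = q * q := by
        rw [← show b ^ k = q * q from hk, ← pow_mod_orderOf b k, hbord]
      have h4 := hpow4 q hqC
      rw [← hk'] at h4 ⊢
      rcases (show k % 4 = 0 ∨ k % 4 = 1 ∨ k % 4 = 2 ∨ k % 4 = 3 by omega) with h | h | h | h <;>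
        rw [h] at h4 ⊢
      · exact Or.inl (pow_zero b)
      · exact absurd (by simpa using h4) hb2
      · exact Or.inr (by rw [pow_two, hbc])
      · refine absurd ?_ hb2
        calc b * b = b ^ 3 * b ^ 3 * (b * b * (b * b))⁻¹ := by simp [pow_succ, mul_assoc]
          _ = 1 := by rw [h4, hpow4 b hbC]; simp
    rcases hq2 with hq2 | hq2
    · exact ⟨q, hqC, hq2, fun h => hq (h ▸ one_mem _),
        fun h => hq (by rw [h, ← hbc]; exact mul_mem (Subgroup.mem_zpowers b) (Subgroup.mem_zpowers b))⟩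
    · refine ⟨q * b, mul_mem hqC hbC, ?_, fun h => hq ?_, fun h => hq ?_⟩
      · calc q * b * (q * b) = q * q * (b * b) := by
              rw [mul_assoc, ← mul_assoc b q, hCc b hbC q hqC]; group
          _ = 1 := by rw [hq2, hbc, ← hbc]; exact hpow4 b hbC
      · rw [eq_inv_of_mul_eq_one_left h]; exact inv_mem (Subgroup.mem_zpowers b)
      · rw [eq_mul_inv_of_mul_eq h, ← hbc]
        exact mul_mem (mul_mem (Subgroup.mem_zpowers b) (Subgroup.mem_zpowers b))
          (inv_mem (Subgroup.mem_zpowers b))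
  have hbc : b * b = c0 := by
    refine (hfix _ (mul_mem hbC hbC) ?_).resolve_left hb2
    calc x * (b * b) * x⁻¹ = (x * b * x⁻¹) * (x * b * x⁻¹) := by group
      _ = (b * b)⁻¹ := by rw [hbinv]; group
      _ = b * b := inv_eq_of_mul_eq_one_right (hpow4 b hbC)
  -- `x` moves `e` by `c0`
  have hθe : x * e * x⁻¹ = c0 * e := by
    have hne : x * e * x⁻¹ ≠ e := fun h => (hfix e heC h).elim he1 hec
    have hm : x * e * x⁻¹ * e ∈ C := mul_mem (hθC e heC) heC
    have hx' : x * (x * e * x⁻¹ * e) * x⁻¹ = x * e * x⁻¹ * e := by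
      calc x * (x * e * x⁻¹ * e) * x⁻¹ = x * (x * e * x⁻¹) * x⁻¹ * (x * e * x⁻¹) := by group
        _ = x * e * x⁻¹ * e := by rw [hθ2 e heC, hCc e heC _ (hθC e heC)]
    rcases hfix _ hm hx' with h | h
    · exact absurd (mul_eq_one_iff_eq_inv.1 h |>.trans (inv_eq_of_mul_eq_one_right he2)) hne
    · rw [← h, mul_assoc (x * e * x⁻¹) e e, he2, mul_one]
  -- then `e * b` is fixed without being central
  have hfx : x * (e * b) * x⁻¹ = e * b := by
    calc x * (e * b) * x⁻¹ = (x * e * x⁻¹) * (x * b * x⁻¹) := by group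
      _ = c0 * (e * b⁻¹) := by rw [hθe, hbinv, mul_assoc]
      _ = e * b := by
        rw [← hbc, ← mul_assoc, hCc _ (mul_mem hbC hbC) e heC]; group
  rcases hfix _ (mul_mem heC hbC) hfx with h | h
  · have : e = b⁻¹ := eq_inv_of_mul_eq_one_left h
    rw [this, ← mul_inv_rev, inv_eq_one] at he2
    exact hb2 he2
  · have : e = c0 * b⁻¹ := eq_mul_inv_of_mul_eq h
    rw [← hbc, mul_inv_cancel_right] at this
    exact hb2 (this ▸ he2)

/-- A non-commutative group of order sixteen without elements of order eight has centre of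
order four. -/
theorem card_center_eq_four (h16 : Nat.card P = 16) (hna : ¬ ∀ a b : P, a * b = b * a)
    (h8 : ∀ x : P, orderOf x ≠ 8) : Nat.card (Subgroup.center P) = 4 := by
  classical
  haveI : Fact (Nat.Prime 2) := ⟨Nat.prime_two⟩
  have hP : IsPGroup 2 P := IsPGroup.of_card (n := 4) (by rw [h16]; rfl)
  haveI : Nontrivial P := Finite.one_lt_card_iff_nontrivial.1 (by omega)
  haveI : Nontrivial (Subgroup.center P) := hP.center_nontrivial
  obtain ⟨j, hj, hj'⟩ := (Nat.dvd_prime_pow Nat.prime_two).1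
    (show Nat.card (Subgroup.center P) ∣ 2 ^ 4 by
      rw [show (2 : ℕ) ^ 4 = 16 from rfl, ← h16]; exact Subgroup.card_subgroup_dvd_card _)
  have hj0 : j ≠ 0 := by
    rintro rfl
    exact absurd hj' (Finite.one_lt_card_iff_nontrivial.2 inferInstance).ne'
  have hcyc : ∀ k : ℕ, (Subgroup.center P).index = k → (k = 1 ∨ k = 2) → False := by
    intro k hk hk12
    haveI : IsCyclic (P ⧸ Subgroup.center P) := by
      rcases hk12 with rfl | rfl
      · haveI : Subsingleton (P ⧸ Subgroup.center P) :=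
          (Nat.card_eq_one_iff_unique.1 hk).1
        exact isCyclic_of_subsingleton
      · exact isCyclic_of_prime_card (p := 2) hk
    exact hna fun a b => commutative_of_cyclic_center_quotient
      (QuotientGroup.mk' (Subgroup.center P)) (QuotientGroup.ker_mk' _).le a b
  have hidx := (Subgroup.center P).card_mul_index
  rw [hj', h16] at hidx
  interval_cases j
  · exact absurd rfl hj0
  swap
  · rw [hj']; rfl
  swap
  · exact absurd (hcyc 2 (by omega) (Or.inr rfl)) id
  swap
  · exact absurd (hcyc 1 (by omega) (Or.inl rfl)) id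
  -- centre of order two
  exfalso
  let mk := QuotientGroup.mk' (Subgroup.center P)
  haveI : Nontrivial (P ⧸ Subgroup.center P) :=
    Finite.one_lt_card_iff_nontrivial.1 (show 1 < (Subgroup.center P).index by omega)
  haveI : Nontrivial (Subgroup.center (P ⧸ Subgroup.center P)) :=
    (hP.to_quotient _).center_nontrivial
  obtain ⟨⟨q, hq⟩, hq1⟩ := exists_ne (1 : Subgroup.center (P ⧸ Subgroup.center P))
  obtain ⟨v, rfl⟩ := QuotientGroup.mk'_surjective _ q
  have hvZ : v ∉ Subgroup.center P := fun h =>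
    hq1 (Subtype.ext ((QuotientGroup.eq_one_iff v).2 h))
  obtain ⟨w, hw⟩ : ∃ w, w * v ≠ v * w := by
    by_contra! h
    exact hvZ (Subgroup.mem_center_iff.2 h)
  obtain ⟨c0, hc01, hc0⟩ := Nat.card_eq_two_iff' (1 : Subgroup.center P) |>.1 (by rw [hj']; rfl)
  have hval : ∀ y, y * v * y⁻¹ = v ∨ y * v * y⁻¹ = (c0 : P) * v := by
    intro y
    have hmem : ⁅y, v⁆ ∈ Subgroup.center P := (QuotientGroup.eq_one_iff _).1 (by
      show mk ⁅y, v⁆ = 1
      rw [map_commutatorElement, commutatorElement_eq_one_iff_mul_comm]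
      exact Subgroup.mem_center_iff.1 hq (mk y))
    by_cases h1 : ⁅y, v⁆ = 1
    · exact Or.inl (mul_inv_eq_iff_eq_mul.2 (commutatorElement_eq_one_iff_mul_comm.1 h1))
    · right
      have h2 : (⟨_, hmem⟩ : Subgroup.center P) = c0 :=
        hc0 _ fun h => h1 (congrArg Subtype.val h)
      rw [← congrArg Subtype.val h2]
      simp [commutatorElement_def, mul_assoc]
  -- the centraliser of `v` is an abelian subgroup of index two
  let C : Subgroup P := Subgroup.centralizer {v}
  have hC : ∀ y, y ∈ C ↔ y * v = v * y := fun y => by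
    simp only [C, Subgroup.mem_centralizer_singleton_iff]
  have hc0z : ∀ y : P, y * (c0 : P) = c0 * y := fun y => Subgroup.mem_center_iff.1 c0.2 y
  have hCi : C.index = 2 := by
    refine Subgroup.index_eq_two_iff.2 ⟨w, fun b => ?_⟩
    by_cases hb : b * v = v * b
    · refine Or.inr ⟨(hC b).2 hb, fun h => hw ?_⟩
      have := mul_mem (inv_mem ((hC b).2 hb)) h
      rw [inv_mul_cancel_left] at this
      exact (hC w).1 this
    · refine Or.inl ⟨(hC _).2 ?_, fun h => hb ((hC b).1 h)⟩
      have hb' : b * v * b⁻¹ = c0 * v :=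
        (hval b).resolve_left fun h => hb (mul_inv_eq_iff_eq_mul.1 h)
      have hw' : w * v * w⁻¹ = c0 * v :=
        (hval w).resolve_left fun h => hw (mul_inv_eq_iff_eq_mul.1 h)
      have hcc : (c0 : P) * c0 = 1 := by
        have h := pow_card_eq_one' (x := c0)
        rw [hj'] at h
        simpa [pow_two] using congrArg Subtype.val h
      refine mul_inv_eq_iff_eq_mul.1 ?_
      calc b * w * v * (b * w)⁻¹ = b * (w * v * w⁻¹) * b⁻¹ := by group
        _ = (c0 : P) * (b * v * b⁻¹) := by rw [hw', ← mul_assoc, hc0z b]; group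
        _ = v := by rw [hb', ← mul_assoc, hcc, one_mul]
  have hC8 : Nat.card C = 8 := by
    have := C.card_mul_index
    rw [hCi, h16] at this; omega
  have hvC : v ∈ C := (hC v).2 rfl
  have hCc : ∀ a ∈ C, ∀ b ∈ C, a * b = b * a := by
    let K : Subgroup C := Subgroup.center C
    have hK3 : 3 ≤ Nat.card K := by
      haveI : Fintype K := Fintype.ofFinite _
      let k1 : K := ⟨⟨c0, (hC _).2 (hc0z v).symm⟩,
        Subgroup.mem_center_iff.2 fun y => Subtype.ext (hc0z y)⟩
      let k2 : K := ⟨⟨v, hvC⟩, Subgroup.mem_center_iff.2 fun y => Subtype.ext ((hC y).1 y.2)⟩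
      have hv1 : (1 : K) ≠ k2 := fun h => hvZ (by
        rw [← show (1 : P) = v from congrArg (fun t : K => ((t : C) : P)) h]; exact one_mem _)
      have hc1 : (1 : K) ≠ k1 := fun h => hc01 (Subtype.ext
        (congrArg (fun t : K => ((t : C) : P)) h).symm)
      have hcv : k1 ≠ k2 := fun h => hvZ (by
        rw [← show (c0 : P) = v from congrArg (fun t : K => ((t : C) : P)) h]; exact c0.2)
      have h3 := Finset.card_le_univ ({1, k1, k2} : Finset K)
      rw [Finset.card_insert_of_notMem (by simp [hc1, hv1]), Finset.card_pair hcv] at h3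
      rw [Nat.card_eq_fintype_card]
      exact h3
    haveI : IsCyclic (C ⧸ K) := by
      have h1 := K.card_mul_index
      rw [hC8] at h1
      obtain ⟨i, hi, hi'⟩ := (Nat.dvd_prime_pow Nat.prime_two).1
        (show Nat.card K ∣ 2 ^ 3 from Dvd.intro _ h1)
      rw [hi'] at h1 hK3
      have hi2 : 2 ≤ i := by
        by_contra! h2
        interval_cases i <;> omega
      interval_cases i
      · exact isCyclic_of_prime_card (p := 2) (show K.index = 2 by omega)
      · haveI : Subsingleton (C ⧸ K) :=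
          (Nat.card_eq_one_iff_unique.1 (show K.index = 1 by omega)).1
        exact isCyclic_of_subsingleton
    intro a ha b hb
    exact congrArg Subtype.val (commutative_of_cyclic_center_quotient (QuotientGroup.mk' K)
      (QuotientGroup.ker_mk' K).le (⟨a, ha⟩ : C) ⟨b, hb⟩)
  exact false_of_abelian_index_two h8 C hCi hC8 hCc c0 hc01 hc0 w fun h => hw ((hC w).1 h)

end Group

/-- No simple group has a non-commutative Sylow 2-subgroup of order sixteen without elements of
order eight and with non-cyclic centre. -/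
theorem false_of_sixteen {G : Type u} [Group G] [Finite G] [IsSimpleGroup G]
    (hG : ¬ IsMulCommutative G) (S : Sylow 2 G) (h16 : Nat.card (S : Subgroup G) = 16)
    (hna : ¬ ∀ a b : (S : Subgroup G), a * b = b * a)
    (h8 : ∀ x : (S : Subgroup G), orderOf x ≠ 8)
    (hcyc : ¬ IsCyclic (Subgroup.center (S : Subgroup G))) : False := by
  classical
  haveI : Fact (Nat.Prime 2) := ⟨Nat.prime_two⟩
  set Z := Subgroup.center (S : Subgroup G) with hZdef
  have hZ4 : Nat.card Z = 4 := card_center_eq_four h16 hna h8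
  have hsqZ : ∀ p : (S : Subgroup G), p * p ∈ Z := sq_mem_center h16 hna hZ4
  have hzc : ∀ z ∈ Z, ∀ p : (S : Subgroup G), p * z = z * p := fun z hz p =>
    Subgroup.mem_center_iff.1 hz p
  have hz2 : ∀ z ∈ Z, z * z = 1 := by
    intro z hz
    obtain ⟨j, hj, hj'⟩ := (Nat.dvd_prime_pow Nat.prime_two).1
      (show orderOf (⟨z, hz⟩ : Z) ∣ 2 ^ 2 by
        rw [show (2 : ℕ) ^ 2 = 4 from rfl, ← hZ4]; exact orderOf_dvd_natCard _)
    have hj2 : j ≠ 2 := fun h2 => hcyc (isCyclic_of_orderOf_eq_card _ (by rw [hj', h2, hZ4]; rfl))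
    have h1 : (⟨z, hz⟩ : Z) ^ 2 = 1 := orderOf_dvd_iff_pow_eq_one.1 (by
      rw [hj']; exact (pow_dvd_pow 2 (show j ≤ 1 by omega)).trans (by norm_num))
    rw [← pow_two]
    exact congrArg Subtype.val h1
  -- the commutator
  obtain ⟨x0, y0, hxy⟩ : ∃ a b : (S : Subgroup G), a * b ≠ b * a := by
    by_contra! h
    exact hna h
  set c := ⁅x0, y0⁆ with hc
  have hcomZ : ∀ p q : (S : Subgroup G), ⁅p, q⁆ ∈ Z := by
    intro p q
    refine (QuotientGroup.eq_one_iff _).1 ?_
    show QuotientGroup.mk' Z ⁅p, q⁆ = 1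
    have h1 : ∀ r : (S : Subgroup G) ⧸ Z, r * r = 1 := fun r => by
      obtain ⟨r, rfl⟩ := QuotientGroup.mk_surjective r
      exact (QuotientGroup.eq_one_iff _).2 (hsqZ r)
    rw [map_commutatorElement, commutatorElement_eq_one_iff_mul_comm]
    generalize QuotientGroup.mk' Z p = u, QuotientGroup.mk' Z q = v
    calc u * v = u * ((u * v) * (u * v)) * v := by rw [h1, mul_one]
      _ = (u * u) * (v * u) * (v * v) := by group
      _ = v * u := by rw [h1, h1, one_mul, mul_one]
  have hmulr : ∀ p q r : (S : Subgroup G), ⁅p, q * r⁆ = ⁅p, q⁆ * ⁅p, r⁆ := fun p q r => by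
    calc ⁅p, q * r⁆ = ⁅p, q⁆ * (q * ⁅p, r⁆ * q⁻¹) := by simp [commutatorElement_def, mul_assoc]
      _ = ⁅p, q⁆ * ⁅p, r⁆ := by rw [hzc _ (hcomZ p r) q, mul_inv_cancel_right]
  have hmull : ∀ p q r : (S : Subgroup G), ⁅p * q, r⁆ = ⁅p, r⁆ * ⁅q, r⁆ := fun p q r => by
    calc ⁅p * q, r⁆ = p * ⁅q, r⁆ * p⁻¹ * ⁅p, r⁆ := by simp [commutatorElement_def, mul_assoc]
      _ = ⁅p, r⁆ * ⁅q, r⁆ := by
        rw [hzc _ (hcomZ q r) p, mul_inv_cancel_right, hzc _ (hcomZ q r) ⁅p, r⁆]
  have hcmem : c ∈ Z := hcomZ x0 y0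
  have hc1 : c ≠ 1 := fun h => hxy (commutatorElement_eq_one_iff_mul_comm.1 h)
  have hQ4 : Z.index = 4 := by
    have := Z.card_mul_index
    rw [hZ4, h16] at this; omega
  have hx0 : x0 ∉ Z := fun h => hxy (hzc x0 h y0).symm
  have hy0 : y0 ∉ Z := fun h => hxy (hzc y0 h x0)
  -- coset representatives
  have hrep : ∀ u v : (S : Subgroup G), u ∉ Z → v ∉ Z → u⁻¹ * v ∉ Z →
      ∀ p : (S : Subgroup G), ∃ z ∈ Z, p = z ∨ p = u * z ∨ p = v * z ∨ p = u * v * z := by
    intro u v hu hv huv p
    haveI : Fintype ((S : Subgroup G) ⧸ Z) := Fintype.ofFinite _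
    have h4 : ({1, (u : (S : Subgroup G) ⧸ Z), (v : (S : Subgroup G) ⧸ Z),
        ((u * v : (S : Subgroup G)) : (S : Subgroup G) ⧸ Z)} :
          Finset ((S : Subgroup G) ⧸ Z)) = Finset.univ := by
      refine Finset.eq_univ_of_card _ ?_
      have e1 : ∀ w : (S : Subgroup G), (1 : (S : Subgroup G) ⧸ Z) = (w : (S : Subgroup G) ⧸ Z) ↔ w ∈ Z :=
        fun w => eq_comm.trans (QuotientGroup.eq_one_iff w)
      have huv' : u * v ∉ Z := fun h => huv (by
        have := mul_mem (inv_mem (hsqZ u)) h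
        rwa [show (u * u)⁻¹ * (u * v) = u⁻¹ * v by group] at this)
      have h2 : (u : (S : Subgroup G) ⧸ Z) ≠ ((u * v : (S : Subgroup G)) : (S : Subgroup G) ⧸ Z) :=
        fun h => hv (by simpa using QuotientGroup.eq.1 h)
      have h3 : (v : (S : Subgroup G) ⧸ Z) ≠ ((u * v : (S : Subgroup G)) : (S : Subgroup G) ⧸ Z) :=
        fun h => hu (by
          have h1 := (inferInstance : Z.Normal).conj_mem _ (QuotientGroup.eq.1 h) v
          simpa [mul_assoc] using h1)
      rw [← Nat.card_eq_fintype_card, show Nat.card ((S : Subgroup G) ⧸ Z) = 4 from hQ4,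
        Finset.card_insert_of_notMem, Finset.card_insert_of_notMem, Finset.card_pair h3]
      · simp only [Finset.mem_insert, Finset.mem_singleton, not_or]
        exact ⟨fun h => huv (QuotientGroup.eq.1 h), h2⟩
      · simp only [Finset.mem_insert, Finset.mem_singleton, not_or]
        exact ⟨fun h => hu ((e1 u).1 h), fun h => hv ((e1 v).1 h), fun h => huv' ((e1 _).1 h)⟩
    have hp : (p : (S : Subgroup G) ⧸ Z) ∈ ({1, (u : (S : Subgroup G) ⧸ Z),
        (v : (S : Subgroup G) ⧸ Z), ((u * v : (S : Subgroup G)) : (S : Subgroup G) ⧸ Z)} :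
          Finset ((S : Subgroup G) ⧸ Z)) := h4 ▸ Finset.mem_univ _
    simp only [Finset.mem_insert, Finset.mem_singleton] at hp
    rcases hp with hp | hp | hp | hp
    · exact ⟨p, (QuotientGroup.eq_one_iff p).1 hp, Or.inl rfl⟩
    · exact ⟨u⁻¹ * p, QuotientGroup.eq.1 hp.symm, Or.inr (Or.inl (by group))⟩
    · exact ⟨v⁻¹ * p, QuotientGroup.eq.1 hp.symm, Or.inr (Or.inr (Or.inl (by group)))⟩
    · exact ⟨(u * v)⁻¹ * p, QuotientGroup.eq.1 hp.symm, Or.inr (Or.inr (Or.inr (by group)))⟩
  have hcc : c * c = 1 := hz2 c hcmem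
  have hval : ∀ p q : (S : Subgroup G), ⁅p, q⁆ = 1 ∨ ⁅p, q⁆ = c := by
    intro p q
    have hyx : ⁅y0, x0⁆ = c := by
      rw [← commutatorElement_inv]
      exact inv_eq_of_mul_eq_one_right hcc
    have hxy' : x0⁻¹ * y0 ∉ Z := fun h => hxy (by
      have := hzc _ h x0
      calc x0 * y0 = x0 * (x0 * (x0⁻¹ * y0)) := by group
        _ = y0 * x0 := by rw [this]; group)
    have hz1 : ∀ z ∈ Z, ∀ r : (S : Subgroup G), ⁅z, r⁆ = 1 := fun z hz r =>
      commutatorElement_eq_one_iff_mul_comm.2 (hzc z hz r).symm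
    have hz1' : ∀ z ∈ Z, ∀ r : (S : Subgroup G), ⁅r, z⁆ = 1 := fun z hz r =>
      commutatorElement_eq_one_iff_mul_comm.2 (hzc z hz r)
    obtain ⟨z, hz, hp⟩ := hrep x0 y0 hx0 hy0 hxy' p
    obtain ⟨w, hw, hq⟩ := hrep x0 y0 hx0 hy0 hxy' q
    rcases hp with rfl | rfl | rfl | rfl <;> rcases hq with rfl | rfl | rfl | rfl <;>
      simp [hmulr, hmull, hz1 _ hz, hz1' _ hz, hz1' _ hw, hyx, ← hc, hcc]
  have hflip : ∀ p : (S : Subgroup G), p ∉ Z → ∃ q, q * p * q⁻¹ = c * p := by
    intro p hp
    obtain ⟨q, hq⟩ : ∃ q, q * p ≠ p * q := by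
      by_contra! h
      exact hp (Subgroup.mem_center_iff.2 h)
    refine ⟨q, ?_⟩
    rw [← (hval q p).resolve_left fun h => hq (commutatorElement_eq_one_iff_mul_comm.1 h)]
    simp [commutatorElement_def, mul_assoc]
  -- central elements are not conjugate
  have hNfix : ∀ n ∈ Subgroup.normalizer ((S : Subgroup G) : Set G), ∀ z : (S : Subgroup G),
      z ∈ Z → n * (z : G) * n⁻¹ = z := by
    intro n hn
    have hmem : ∀ p : (S : Subgroup G), n * (p : G) * n⁻¹ ∈ (S : Subgroup G) := fun p =>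
      (Subgroup.mem_normalizer_iff.1 hn _).1 p.2
    let φ : (S : Subgroup G) →* (S : Subgroup G) := MonoidHom.mk' (fun p => ⟨_, hmem p⟩)
      fun p q => Subtype.ext (by simp [mul_assoc])
    have hφi : Function.Injective φ := fun p q h => Subtype.ext (by
      simpa [φ] using congrArg Subtype.val h)
    have hφs : Function.Surjective φ := Finite.injective_iff_surjective.1 hφi
    have hφZ : ∀ z ∈ Z, φ z ∈ Z := fun z hz => Subgroup.mem_center_iff.2 fun p => by
      obtain ⟨q, rfl⟩ := hφs p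
      rw [← map_mul, ← map_mul, hzc z hz q]
    have hφc : φ c = c := by
      rw [hc, map_commutatorElement]
      exact (hval _ _).resolve_left fun h => hc1 (hφi (by rw [hc, map_commutatorElement, map_one, h]))
    intro z hz
    suffices h : φ z = z from congrArg Subtype.val h
    by_contra hne
    have hz0 : z ≠ 1 := fun h => hne (by rw [h, map_one])
    have hzc' : z ≠ c := fun h => hne (by rw [h, hφc])
    haveI : Fintype Z := Fintype.ofFinite Z
    have hZall : ∀ w ∈ Z, w = 1 ∨ w = c ∨ w = z ∨ w = c * z := by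
      intro w hw
      have h4 : ({1, ⟨c, hcmem⟩, ⟨z, hz⟩, ⟨c * z, mul_mem hcmem hz⟩} : Finset Z) = Finset.univ := by
        refine Finset.eq_univ_of_card _ ?_
        rw [← Nat.card_eq_fintype_card, hZ4, Finset.card_insert_of_notMem,
          Finset.card_insert_of_notMem, Finset.card_pair]
        · exact fun h => hc1 (right_eq_mul.1 (congrArg Subtype.val h : z = c * z))
        · simp only [Finset.mem_insert, Finset.mem_singleton, not_or]
          exact ⟨fun h => hzc' (congrArg Subtype.val h : c = z).symm,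
            fun h => hz0 (left_eq_mul.1 (congrArg Subtype.val h : c = c * z))⟩
        · simp only [Finset.mem_insert, Finset.mem_singleton, not_or]
          exact ⟨fun h => hc1 (congrArg Subtype.val h : (1 : (S : Subgroup G)) = c).symm,
            fun h => hz0 (congrArg Subtype.val h : (1 : (S : Subgroup G)) = z).symm,
            fun h => hzc' (by
              have h' : c * z = c * c := by
                rw [hcc]; exact (congrArg Subtype.val h : (1 : (S : Subgroup G)) = c * z).symm
              exact mul_left_cancel h')⟩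
      have := (h4 ▸ Finset.mem_univ (⟨w, hw⟩ : Z) :
        (⟨w, hw⟩ : Z) ∈ ({1, ⟨c, hcmem⟩, ⟨z, hz⟩, ⟨c * z, mul_mem hcmem hz⟩} : Finset Z))
      simp only [Finset.mem_insert, Finset.mem_singleton] at this
      rcases this with h | h | h | h
      · exact Or.inl (congrArg Subtype.val h)
      · exact Or.inr (Or.inl (congrArg Subtype.val h))
      · exact Or.inr (Or.inr (Or.inl (congrArg Subtype.val h)))
      · exact Or.inr (Or.inr (Or.inr (congrArg Subtype.val h)))
    have hφz : φ z = c * z := by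
      rcases hZall _ (hφZ z hz) with h | h | h | h
      · exact absurd (hφi (h.trans (map_one φ).symm)) hz0
      · exact absurd (hφi (h.trans hφc.symm)) hzc'
      · exact absurd h hne
      · exact h
    -- iterate
    have hit : ∀ k : ℕ, n ^ k * (z : G) * (n ^ k)⁻¹ = ((c ^ k * z : (S : Subgroup G)) : G) := by
      intro k
      induction k with
      | zero => simp
      | succ k ih =>
        calc n ^ (k + 1) * (z : G) * (n ^ (k + 1))⁻¹ = n * (n ^ k * z * (n ^ k)⁻¹) * n⁻¹ := by
              rw [pow_succ']; group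
          _ = (φ (c ^ k * z) : G) := by rw [ih]; rfl
          _ = _ := by rw [map_mul, map_pow, hφc, hφz, ← mul_assoc, ← pow_succ]
    obtain ⟨j, m, hm, hnm⟩ := Nat.exists_eq_pow_mul_and_not_dvd (orderOf_pos n).ne' 2 (by norm_num)
    have hmem' : n ^ m ∈ (S : Subgroup G) := CfsgLib.Transfer.isPGroup_mem_of_mem_normalizer S
      (pow_mem hn m) j (by rw [← pow_mul, mul_comm, ← hnm, pow_orderOf_eq_one])
    have h1 : n ^ m * (z : G) * (n ^ m)⁻¹ = z := by
      rw [show n ^ m * (z : G) = z * n ^ m from congrArg Subtype.val (hzc z hz ⟨_, hmem'⟩),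
        mul_inv_cancel_right]
    rw [hit m] at h1
    obtain ⟨i, rfl⟩ : Odd m := Nat.odd_iff.2 (Nat.two_dvd_ne_zero.1 hm)
    refine hc1 ?_
    have h2 : c ^ (2 * i + 1) * z = z := Subtype.ext h1
    rwa [pow_succ, pow_mul, pow_two, hcc, one_pow, one_mul, mul_eq_right] at h2
  have hcentral : ∀ z : (S : Subgroup G), z ∈ Z →
      (z : G) ∈ Subgroup.centralizer ((S : Subgroup G) : Set G) := fun z hz =>
    Subgroup.mem_centralizer_iff.2 fun p hp => congrArg Subtype.val (hzc z hz ⟨p, hp⟩)
  have hnotconj : ∀ z w : (S : Subgroup G), z ∈ Z → w ∈ Z → IsConj (z : G) w → z = w := by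
    intro z w hz hw hzw
    obtain ⟨g, hg⟩ := isConj_iff.1 hzw
    obtain ⟨n, hn, he⟩ := S.conj_eq_normalizer_conj_of_mem_centralizer (z : G) g⁻¹
      (hcentral z hz) (by rw [inv_inv, hg]; exact hcentral w hw)
    rw [inv_inv, hg] at he
    refine Subtype.ext ?_
    rw [he]
    simpa using (hNfix n⁻¹ (inv_mem hn) z hz).symm
  -- the non-central partners
  haveI : Fintype (S : Subgroup G) := Fintype.ofFinite _
  let Cl : ↥(S : Subgroup G) → Finset ↥(S : Subgroup G) := fun z =>
    Finset.univ.filter fun p => p ∉ Z ∧ IsConj (z : G) p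
  have hClmem : ∀ z p : (S : Subgroup G), p ∈ Cl z ↔ p ∉ Z ∧ IsConj (z : G) p := fun z p => by simp [Cl]
  have hClc : ∀ z p : (S : Subgroup G), p ∈ Cl z → c * p ∈ Cl z := by
    intro z p hp
    obtain ⟨hpZ, hzp⟩ := (hClmem z p).1 hp
    obtain ⟨q, hq⟩ := hflip p hpZ
    refine (hClmem z _).2 ⟨fun h => hpZ ((Z.mul_mem_cancel_left hcmem).1 h), hzp.trans ?_⟩
    exact isConj_iff.2 ⟨q, by rw [← hq]; rfl⟩
  have hClne : ∀ z : (S : Subgroup G), z ∈ Z → z ≠ 1 → (Cl z).Nonempty := by
    intro z hz hz1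
    by_contra hemp
    have hord : orderOf (z : G) = 2 := orderOf_eq_prime
      (by rw [pow_two]; exact congrArg Subtype.val (hz2 z hz)) fun h => hz1 (Subtype.ext h)
    refine no_isolated hG (z : G) (isolated_of_only_conj S z.2 hord fun g hg => ?_)
    by_contra hne
    set w : (S : Subgroup G) := ⟨g * z * g⁻¹, hg⟩
    have hzw : IsConj (z : G) w := isConj_iff.2 ⟨g, rfl⟩
    by_cases hw : w ∈ Z
    · exact hne (congrArg Subtype.val (hnotconj z w hz hw hzw)).symm
    · exact hemp ⟨w, (hClmem z w).2 ⟨hw, hzw⟩⟩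
  have hdisj : ∀ z w : (S : Subgroup G), z ∈ Z → w ∈ Z → z ≠ w → Disjoint (Cl z) (Cl w) := by
    intro z w hz hw hne
    rw [Finset.disjoint_left]
    intro p hp hp'
    exact hne (hnotconj z w hz hw (((hClmem z p).1 hp).2.trans ((hClmem w p).1 hp').2.symm))
  have hinvol : ∀ z : (S : Subgroup G), z ∈ Z → ∀ p ∈ Cl z, p * p = 1 := by
    intro z hz p hp
    obtain ⟨g, hg⟩ := isConj_iff.1 ((hClmem z p).1 hp).2
    refine Subtype.ext ?_
    show (p : G) * p = 1
    rw [← hg, show g * (z : G) * g⁻¹ * (g * z * g⁻¹) = g * (z * z) * g⁻¹ by group,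
      show (z : G) * z = 1 from congrArg Subtype.val (hz2 z hz)]
    simp
  have hcne : ∀ p : (S : Subgroup G), c * p ≠ p := fun p h => hc1 (mul_eq_right.1 h)
  have hpair : ∀ z p : (S : Subgroup G), p ∈ Cl z → 2 ≤ (Cl z).card := fun z p hp => by
    exact (Finset.card_pair (hcne p).symm).symm.trans_le
      (Finset.card_le_card (by simp [Finset.insert_subset_iff, hp, hClc z p hp]))
  have hfour : ∀ z : (S : Subgroup G), ∀ p ∈ Cl z, Cl z ≠ {p, c * p} → 4 ≤ (Cl z).card := by
    intro z p hp hne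
    obtain ⟨r, hr, hr'⟩ : ∃ r ∈ Cl z, r ∉ ({p, c * p} : Finset _) := by
      by_contra! h
      exact hne (Finset.Subset.antisymm (fun r hr => h r hr)
        (by simp [Finset.insert_subset_iff, hp, hClc z p hp]))
    simp only [Finset.mem_insert, Finset.mem_singleton, not_or] at hr'
    have h1 : c * r ≠ p := fun h => hr'.2 (by rw [← h, ← mul_assoc, hcc, one_mul])
    have h2 : c * r ≠ c * p := fun h => hr'.1 (mul_left_cancel h)
    have : ({p, c * p, r, c * r} : Finset _).card = 4 := by
      rw [Finset.card_insert_of_notMem (by simp [(hcne p).symm, Ne.symm hr'.1, h1.symm]),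
        Finset.card_insert_of_notMem (by simp [Ne.symm hr'.2, h2.symm]),
        Finset.card_pair (hcne r).symm]
    rw [← this]
    exact Finset.card_le_card (by simp [Finset.insert_subset_iff, hp, hr, hClc z p hp, hClc z r hr])
  -- choose a second central involution
  obtain ⟨a, haZ, ha1, hac⟩ : ∃ a ∈ Z, a ≠ 1 ∧ a ≠ c := by
    by_contra! h
    have h1 := Nat.card_le_card_of_injective (fun w : Z => decide ((w : (S : Subgroup G)) = 1)) (by
      intro u v huv
      apply Subtype.ext
      by_cases hu : (u : (S : Subgroup G)) = 1 <;> by_cases hv : (v : (S : Subgroup G)) = 1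
      · rw [hu, hv]
      · simp [hu, hv] at huv
      · simp [hu, hv] at huv
      · rw [h u u.2 hu, h v v.2 hv])
    rw [hZ4] at h1
    simp at h1
  have hca : c * a ∈ Z := mul_mem hcmem haZ
  have hca1 : c * a ≠ 1 := fun h => hac (by rw [← one_mul a, ← hcc, mul_assoc, h, mul_one])
  have hd1 : c ≠ a := fun h => hac h.symm
  have hd2 : c ≠ c * a := fun h => ha1 (left_eq_mul.1 h)
  have hd3 : a ≠ c * a := fun h => hc1 (right_eq_mul.1 h)
  obtain ⟨p0, hp0⟩ := hClne c hcmem hc1
  obtain ⟨p1, hp1⟩ := hClne a haZ ha1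
  obtain ⟨p2, hp2⟩ := hClne (c * a) hca hca1
  set U := Cl c ∪ Cl a ∪ Cl (c * a) with hU
  have hUcard : U.card = (Cl c).card + (Cl a).card + (Cl (c * a)).card := by
    rw [hU, Finset.card_union_of_disjoint, Finset.card_union_of_disjoint (hdisj _ _ hcmem haZ hd1)]
    rw [Finset.disjoint_union_left]
    exact ⟨hdisj _ _ hcmem hca hd2, hdisj _ _ haZ hca hd3⟩
  have hUinv : ∀ p ∈ U, p * p = 1 ∧ p ∉ Z := by
    intro p hp
    simp only [hU, Finset.mem_union] at hp
    rcases hp with (hp | hp) | hp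
    · exact ⟨hinvol c hcmem p hp, ((hClmem c p).1 hp).1⟩
    · exact ⟨hinvol a haZ p hp, ((hClmem a p).1 hp).1⟩
    · exact ⟨hinvol _ hca p hp, ((hClmem _ p).1 hp).1⟩
  -- two non-commuting involutions
  have hcoset : ∀ (u : (S : Subgroup G)) (s : Finset (S : Subgroup G)),
      (∀ p ∈ s, u⁻¹ * p ∈ Z) → s.card ≤ 4 := by
    intro u s hs
    rw [← hZ4, ← Nat.card_eq_finsetCard]
    refine Nat.card_le_card_of_injective (fun p : s => (⟨u⁻¹ * p, hs p p.2⟩ : Z)) fun p q h => ?_
    exact Subtype.ext (mul_left_cancel (congrArg Subtype.val h))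
  have hUc : 6 ≤ U.card := by
    rw [hUcard]
    have := hpair c p0 hp0; have := hpair a p1 hp1; have := hpair _ p2 hp2
    omega
  obtain ⟨u, huU⟩ : U.Nonempty := Finset.card_pos.1 (by omega)
  obtain ⟨v, hvU, huv⟩ : ∃ v ∈ U, u⁻¹ * v ∉ Z := by
    by_contra! h
    have := hcoset u U h
    omega
  have hu2 := (hUinv u huU).1
  have hv2 := (hUinv v hvU).1
  have huZ := (hUinv u huU).2
  have hvZ := (hUinv v hvU).2
  have huvc : u * v * (u * v) = c := by
    have hcomm : u * v ≠ v * u := by
      intro h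
      refine hxy ?_
      have hz1 : ∀ z ∈ Z, ∀ r : (S : Subgroup G), ⁅z, r⁆ = 1 := fun z hz r =>
        commutatorElement_eq_one_iff_mul_comm.2 (hzc z hz r).symm
      have hz1' : ∀ z ∈ Z, ∀ r : (S : Subgroup G), ⁅r, z⁆ = 1 := fun z hz r =>
        commutatorElement_eq_one_iff_mul_comm.2 (hzc z hz r)
      have h0 : ⁅u, v⁆ = 1 := commutatorElement_eq_one_iff_mul_comm.2 h
      have h0' : ⁅v, u⁆ = 1 := commutatorElement_eq_one_iff_mul_comm.2 h.symm
      refine commutatorElement_eq_one_iff_mul_comm.1 ?_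
      obtain ⟨z, hz, hx⟩ := hrep u v huZ hvZ huv x0
      obtain ⟨w, hw, hy⟩ := hrep u v huZ hvZ huv y0
      rcases hx with hx | hx | hx | hx <;> rcases hy with hy | hy | hy | hy <;> rw [hx, hy] <;>
        simp [hmulr, hmull, hz1 _ hz, hz1' _ hz, hz1' _ hw, h0, h0']
    have h1 := (hval u v).resolve_left fun h => hcomm (commutatorElement_eq_one_iff_mul_comm.1 h)
    rw [← h1, commutatorElement_def, inv_eq_of_mul_eq_one_right hu2, inv_eq_of_mul_eq_one_right hv2]
    simp [mul_assoc]
  have hsq : ∀ p : (S : Subgroup G), p * p = 1 ∨ p * p = c := by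
    intro p
    obtain ⟨z, hz, hp⟩ := hrep u v huZ hvZ huv p
    have e : ∀ r : (S : Subgroup G), r * z * (r * z) = r * r := fun r => by
      calc r * z * (r * z) = r * (z * r) * z := by group
        _ = r * r * (z * z) := by rw [← hzc z hz r]; group
        _ = r * r := by rw [hz2 z hz, mul_one]
    rcases hp with rfl | rfl | rfl | rfl
    · exact Or.inl (hz2 _ hz)
    · exact Or.inl ((e u).trans hu2)
    · exact Or.inl ((e v).trans hv2)
    · exact Or.inr ((e (u * v)).trans huvc)
  have hU8 : U.card ≤ 8 := by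
    have hsub : U = U.filter (fun p => u⁻¹ * p ∈ Z) ∪ U.filter (fun p => v⁻¹ * p ∈ Z) := by
      refine Finset.Subset.antisymm (fun p hp => ?_)
        (Finset.union_subset (Finset.filter_subset _ _) (Finset.filter_subset _ _))
      obtain ⟨hp2, hpZ⟩ := hUinv p hp
      obtain ⟨z, hz, h⟩ := hrep u v huZ hvZ huv p
      rw [Finset.mem_union, Finset.mem_filter, Finset.mem_filter]
      rcases h with rfl | rfl | rfl | rfl
      · exact absurd hz hpZ
      · exact Or.inl ⟨hp, by simpa using hz⟩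
      · exact Or.inr ⟨hp, by simpa using hz⟩
      · exfalso
        refine hc1 ?_
        rw [← huvc, ← hp2]
        calc u * v * (u * v) = u * v * (u * v) * (z * z) := by rw [hz2 z hz, mul_one]
          _ = u * v * (u * v * z) * z := by group
          _ = u * v * z * (u * v * z) := by
            rw [mul_assoc (u * v) (u * v * z) z, hzc z hz (u * v * z)]; group
    rw [hsub]
    refine (Finset.card_union_le _ _).trans ?_
    have h1 := hcoset u (U.filter fun p => u⁻¹ * p ∈ Z) fun p hp => (Finset.mem_filter.1 hp).2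
    have h2 := hcoset v (U.filter fun p => v⁻¹ * p ∈ Z) fun p hp => (Finset.mem_filter.1 hp).2
    omega
  -- one of the two has a single pair of partners
  obtain ⟨z, p, hz, hz1, hzcne, hpCl, hCl⟩ : ∃ z p, z ∈ Z ∧ z ≠ 1 ∧ z ≠ c ∧ p ∈ Cl z ∧
      Cl z = {p, c * p} := by
    by_contra! h
    have h1 := hfour a p1 hp1 (h a p1 haZ ha1 hac hp1)
    have h2 := hfour (c * a) p2 hp2 (h (c * a) p2 hca hca1 hd2.symm hp2)
    have h0 := hpair c p0 hp0
    omega
  -- a maximal subgroup missing `z` and `p`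
  have hpp := hinvol z hz p hpCl
  have hzp2 : (z * p) * (z * p) = 1 := by
    calc (z * p) * (z * p) = z * (p * z) * p := by group
      _ = z * z * (p * p) := by rw [hzc z hz p]; group
      _ = 1 := by rw [hz2 z hz, hpp, one_mul]
  have hcr : ∀ r : (S : Subgroup G), r * c = c * r := fun r => hzc c hcmem r
  let K : Subgroup (S : Subgroup G) := Subgroup.closure {c, z * p}
  have hK : ∀ r ∈ K, r = 1 ∨ r = c ∨ r = z * p ∨ r = c * (z * p) := by
    intro r hr
    induction hr using Subgroup.closure_induction with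
    | mem x hx => rcases hx with rfl | rfl <;> simp
    | one => simp
    | mul x y _ _ hx hy =>
      rcases hx with rfl | rfl | rfl | rfl <;> rcases hy with rfl | rfl | rfl | rfl <;>
        simp [hcc, hzp2, hcr (z * p), ← mul_assoc c c, mul_assoc c (z * p), ← mul_assoc (z * p) c]
    | inv x _ hx =>
      rcases hx with rfl | rfl | rfl | rfl
      · simp
      · exact Or.inr (Or.inl (inv_eq_of_mul_eq_one_right hcc))
      · exact Or.inr (Or.inr (Or.inl (inv_eq_of_mul_eq_one_right hzp2)))
      · refine Or.inr (Or.inr (Or.inr ?_))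
        rw [mul_inv_rev, inv_eq_of_mul_eq_one_right hcc, inv_eq_of_mul_eq_one_right hzp2, hcr]
  have hpZ : p ∉ Z := ((hClmem z p).1 hpCl).1
  have hzK : z ∉ K := by
    intro h
    rcases hK z h with h | h | h | h
    · exact hz1 h
    · exact hzcne h
    · exact hpZ (by rw [show p = 1 from left_eq_mul.1 h]; exact one_mem _)
    · refine hpZ ?_
      rw [show p = (c * z)⁻¹ * z by rw [← mul_assoc] at h; exact (inv_mul_eq_of_eq_mul h).symm]
      exact mul_mem (inv_mem (mul_mem hcmem hz)) hz
  obtain ⟨M, hKM, hM⟩ :=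
    Finite.exists_le_maximal (p := fun L : Subgroup (S : Subgroup G) => z ∉ L) hzK
  have hcM : c ∈ M := hKM (Subgroup.subset_closure (by simp))
  have hzpM : z * p ∈ M := hKM (Subgroup.subset_closure (by simp))
  have hpM : p ∉ M := fun h => hM.1 (by
    have := mul_mem hzpM (inv_mem h)
    rwa [mul_inv_cancel_right] at this)
  have hcpM : c * p ∉ M := fun h => hpM ((M.mul_mem_cancel_left hcM).1 h)
  haveI : M.Normal := ⟨fun m hm g => by
    rw [show g * m * g⁻¹ = ⁅g, m⁆ * m by simp [commutatorElement_def, mul_assoc]]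
    refine mul_mem ?_ hm
    rcases hval g m with h | h <;> rw [h]
    · exact one_mem M
    · exact hcM⟩
  have hidx : M.index = 2 := by
    refine Subgroup.index_eq_two_iff.2 ⟨z, fun b => ?_⟩
    by_cases hb : b ∈ M
    · exact Or.inr ⟨hb, fun h => hM.1 (by
        have := mul_mem (inv_mem hb) h
        rwa [inv_mul_cancel_left] at this)⟩
    · refine Or.inl ⟨?_, hb⟩
      have hlt : M < M ⊔ Subgroup.zpowers b := lt_of_le_of_ne le_sup_left fun h =>
        hb (h.symm ▸ Subgroup.mem_sup_right (Subgroup.mem_zpowers b))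
      have hzmem : z ∈ M ⊔ Subgroup.zpowers b := by
        by_contra h
        exact hlt.not_ge (hM.2 h hlt.le)
      obtain ⟨m, hm, w, hw, hmw⟩ := Subgroup.mem_sup_of_normal_left.1 hzmem
      have hbb : b * b ∈ M := by
        rcases hsq b with h | h <;> rw [h]
        · exact one_mem M
        · exact hcM
      obtain ⟨k, rfl⟩ := Subgroup.mem_zpowers_iff.1 hw
      obtain ⟨i, rfl | rfl⟩ := Int.even_or_odd' k
      · exfalso
        refine hM.1 ?_
        rw [← hmw, zpow_mul, show b ^ (2 : ℤ) = b * b from zpow_two b]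
        exact mul_mem hm (zpow_mem hbb i)
      · rw [zpow_add, zpow_one, zpow_mul, show b ^ (2 : ℤ) = b * b from zpow_two b] at hmw
        have h1 : m * (b * b) ^ i ∈ M := mul_mem hm (zpow_mem hbb i)
        have h2 : z = m * (b * b) ^ i * b := by rw [mul_assoc]; exact hmw.symm
        have h3 : b * z = (m * (b * b) ^ i)⁻¹ := by
          have hb' : b = (m * (b * b) ^ i)⁻¹ * z := by rw [h2]; group
          calc b * z = (m * (b * b) ^ i)⁻¹ * z * z := by rw [← hb']
            _ = (m * (b * b) ^ i)⁻¹ := by rw [mul_assoc, hz2 z hz, mul_one]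
        rw [h3]
        exact inv_mem h1
  have hrel : (M.map (S : Subgroup G).subtype).relIndex (S : Subgroup G) = 2 := by
    refine Eq.trans ?_ hidx
    exact congrArg Subgroup.index
      (Subgroup.comap_map_eq_self_of_injective (Subgroup.subtype_injective _) M)
  obtain ⟨L, hLn, hL2, -⟩ := CfsgLib.Transfer.thompson_transfer S (M.map (S : Subgroup G).subtype)
    hrel (z : G) (by rw [pow_two]; exact congrArg Subtype.val (hz2 z hz)) (by
      intro g hg hgM
      obtain ⟨m, hm, hmg⟩ := hgM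
      have hzm : IsConj (z : G) m := isConj_iff.2 ⟨g, hmg.symm⟩
      by_cases hmZ : m ∈ Z
      · exact hM.1 (hnotconj z m hz hmZ hzm ▸ hm)
      · have : m ∈ Cl z := (hClmem z m).2 ⟨hmZ, hzm⟩
        rw [hCl] at this
        simp only [Finset.mem_insert, Finset.mem_singleton] at this
        rcases this with h | h
        · exact hpM (h ▸ hm)
        · exact hcpM (h ▸ hm))
  rcases hLn.eq_bot_or_eq_top with h | h
  · rw [h, Subgroup.index_bot] at hL2
    haveI : IsCyclic G := isCyclic_of_prime_card (p := 2) hL2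
    exact hG IsCyclic.commutative
  · rw [h, Subgroup.index_top] at hL2
    omega

end CfsgLib.CentralType
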