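import Cfsg.Agent.Lib.CentralType.AbelianSylow
import Cfsg.Agent.Lib.CentralType.Sixteen
import Cfsg.Agent.Lib.GWCons.RankOneCover
import Cfsg.Agent.Lib.Schur.SLTwo
import Cfsg.Agent.Lib.CoreKill.Applications
import Cfsg.Agent.Lib.Small.OrderEight
import Cfsg.Prelude.Def_Exceptional
import Cfsg.Prelude.Def_Sporadic

/-!
# Good primes for simple groups
-/

set_option autoImplicit false
set_option linter.unusedSectionVars false
set_option linter.style.haveILetI false

noncomputable section

namespace CfsgLib.CentralType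

open Cfsg
open scoped commutatorElement

universe u

/-- Some prime dividing the order is good. -/
def HasGood (T : Type u) [Group T] : Prop :=
  ∃ p : ℕ, p.Prime ∧ p ∣ Nat.card T ∧ Good T p

theorem HasGood.of_equiv {T T' : Type u} [Group T] [Group T'] [Finite T] [Finite T']
    (h : HasGood T) (e : T ≃* T') : HasGood T' := by
  obtain ⟨p, hp, hd, hg⟩ := h
  haveI := Fact.mk hp
  exact ⟨p, hp, by rwa [← Nat.card_congr e.toEquiv], hg.of_equiv e⟩

/-- A prime with a cyclic Sylow subgroup in an isomorphic group is good. -/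
theorem hasGood_of_cyclic {T : Type u} {T' : Type*} [Group T] [Group T'] [Finite T] [Finite T']
    (e : T ≃* T') {p : ℕ} (hp : p.Prime) (hd : p ∣ Nat.card T')
    (H : Subgroup T') (hH : IsCyclic H) (hi : ¬ p ∣ H.index) : HasGood T := by
  haveI := Fact.mk hp
  refine ⟨p, hp, by rwa [Nat.card_congr e.toEquiv], ?_⟩
  let H' := H.map e.symm.toMonoidHom
  haveI : IsCyclic H' := by
    haveI := hH
    exact isCyclic_of_surjective (e.symm.toMonoidHom.subgroupMap H)
      (e.symm.toMonoidHom.subgroupMap_surjective H)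
  have hi' : ¬ p ∣ H'.index := by
    have : H'.index = H.index := Subgroup.index_map_equiv H e.symm
    rwa [this]
  obtain ⟨S⟩ : Nonempty (Sylow p H') := inferInstance
  let S' : Subgroup T := (S : Subgroup H').map H'.subtype
  have hS' : ¬ p ∣ S'.index := by
    rw [Subgroup.index_map_subtype]
    exact fun h => (hp.dvd_mul.1 h).elim S.not_dvd_index hi'
  refine good_of_cyclic ((S.2.map H'.subtype).toSylow hS') ?_
  haveI : IsCyclic (S : Subgroup H') := Subgroup.isCyclic _
  exact isCyclic_of_surjective (H'.subtype.subgroupMap (S : Subgroup H'))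
    (H'.subtype.subgroupMap_surjective _)

/-- `PSL(2, F)` has an odd prime with cyclic Sylow subgroups. -/
theorem hasGood_pslTwo {T : Type u} [Group T] [Finite T] {F : Type} [Field F] [Fintype F]
    (hF : 3 < Fintype.card F) (e : T ≃* Matrix.ProjectiveSpecialLinearGroup (Fin 2) F) :
    HasGood T := by
  classical
  set q := Fintype.card F with hq
  obtain ⟨g, hg⟩ := CfsgLib.Schur.exists_split_torus (F := F)
  obtain ⟨c, hc, -⟩ := CfsgLib.Schur.exists_nonsplit_torus (F := F)
  obtain ⟨pc, hchar⟩ := CharP.exists F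
  obtain ⟨f, hpc, hqf⟩ := FiniteField.card F pc
  have hcard := CfsgLib.Schur.natCard_slTwo (F := F)
  rw [← hq] at hcard
  -- an odd prime dividing `q - 1` or `q + 1`
  obtain ⟨n, hn, hn4, hnodd⟩ : ∃ n, (n = q - 1 ∨ n = q + 1) ∧ 3 ≤ n ∧ n % 4 ≠ 0 := by
    rcases Nat.even_or_odd q with ⟨k, hk⟩ | ⟨k, hk⟩
    · exact ⟨q + 1, Or.inr rfl, by omega, by omega⟩
    · by_cases h : (q + 1) % 4 = 0
      · exact ⟨q - 1, Or.inl rfl, by omega, by omega⟩
      · exact ⟨q + 1, Or.inr rfl, by omega, by omega⟩
  obtain ⟨r, hr, hr2, hrn⟩ : ∃ r, r.Prime ∧ 2 < r ∧ r ∣ n := by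
    rcases Nat.even_or_odd n with ⟨k, hk⟩ | hodd
    · have hk1 : k ≠ 1 := by omega
      have hr := Nat.minFac_prime hk1
      refine ⟨k.minFac, hr, ?_, (Nat.minFac_dvd k).trans ⟨2, by omega⟩⟩
      refine lt_of_le_of_ne hr.two_le fun h => ?_
      have := (h ▸ Nat.minFac_dvd k : 2 ∣ k)
      omega
    · have hn1 : n ≠ 1 := by omega
      have hr := Nat.minFac_prime hn1
      refine ⟨n.minFac, hr, ?_, Nat.minFac_dvd n⟩
      refine lt_of_le_of_ne hr.two_le fun h => ?_
      have := (h ▸ Nat.minFac_dvd n : 2 ∣ n)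
      rw [Nat.odd_iff] at hodd
      omega
  haveI := Fact.mk hr
  have hrq : ¬ r ∣ q := by
    intro h
    rcases hn with rfl | rfl
    · have := Nat.dvd_sub h hrn
      rw [show q - (q - 1) = 1 by omega] at this
      exact hr.ne_one (Nat.dvd_one.1 this)
    · exact hr.ne_one (Nat.dvd_one.1 ((Nat.dvd_add_right h).1 hrn))
  -- a cyclic subgroup of index prime to `r`
  obtain ⟨x, hxi⟩ : ∃ x : Matrix.SpecialLinearGroup (Fin 2) F, ¬ r ∣ (Subgroup.zpowers x).index := by
    have hnot : ¬ (r ∣ q - 1 ∧ r ∣ q + 1) := fun h => by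
      have h2 := Nat.dvd_sub h.2 h.1
      rw [show q + 1 - (q - 1) = 2 by omega] at h2
      exact absurd (Nat.le_of_dvd (by norm_num) h2) (by omega)
    rcases hn with rfl | rfl
    · refine ⟨_, CfsgLib.Schur.not_dvd_index_zpowers (CfsgLib.Schur.slDiag g) (d := q * (q + 1))
        (by rw [hg, hcard, ← hq]; ring) fun h => (hr.dvd_mul.1 h).elim hrq fun h => hnot ⟨hrn, h⟩⟩
    · refine ⟨_, CfsgLib.Schur.not_dvd_index_zpowers c (d := q * (q - 1))
        (by rw [hc, hcard, ← hq]; ring) fun h => (hr.dvd_mul.1 h).elim hrq fun h => hnot ⟨h, hrn⟩⟩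
  let π := QuotientGroup.mk' (Subgroup.center (Matrix.SpecialLinearGroup (Fin 2) F))
  have hπ : Function.Surjective π := QuotientGroup.mk'_surjective _
  refine hasGood_of_cyclic e hr ?_ (Subgroup.zpowers (π x)) inferInstance ?_
  · have h1 := (Subgroup.center (Matrix.SpecialLinearGroup (Fin 2) F)).card_mul_index
    have hdvd : r ∣ Nat.card (Matrix.SpecialLinearGroup (Fin 2) F) := by
      rw [hcard]
      refine Dvd.dvd.mul_left ?_ q
      rcases hn with rfl | rfl
      · exact hrn.mul_right _
      · exact hrn.mul_left _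
    rw [← h1] at hdvd
    refine (hr.dvd_mul.1 hdvd).resolve_left fun h => ?_
    have hcen : Nat.card (Subgroup.center (Matrix.SpecialLinearGroup (Fin 2) F)) ≤ 2 := by
      rw [Nat.card_congr
        (Matrix.SpecialLinearGroup.center_equiv_rootsOfUnity (n := Fin 2) (R := F)).toEquiv]
      haveI : NeZero (max (Fintype.card (Fin 2)) 1) := ⟨by simp⟩
      exact (card_rootsOfUnity F (max (Fintype.card (Fin 2)) 1)).trans (by simp)
    exact absurd (Nat.le_of_dvd Nat.card_pos h) (by omega)
  · rw [← MonoidHom.map_zpowers]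
    exact fun h => hxi (h.trans (Subgroup.index_map_dvd _ hπ))

/-- The alternating group of degree seven has a cyclic Sylow 5-subgroup. -/
theorem hasGood_altSeven {T : Type u} [Group T] [Finite T] (e : T ≃* alternatingGroup (Fin 7)) :
    HasGood T := by
  have hcard : Nat.card (alternatingGroup (Fin 7)) = 2520 := by
    rw [nat_card_alternatingGroup, Nat.card_eq_fintype_card, Fintype.card_fin]; rfl
  haveI : Fact (Nat.Prime 5) := ⟨by norm_num⟩
  obtain ⟨S⟩ : Nonempty (Sylow 5 (alternatingGroup (Fin 7))) := inferInstance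
  have hS : Nat.card (S : Subgroup (alternatingGroup (Fin 7))) = 5 := by
    obtain ⟨k, hk⟩ := S.2.exists_card_eq
    have h1 := (S : Subgroup (alternatingGroup (Fin 7))).card_mul_index
    rw [hk, hcard] at h1
    have h2 := S.not_dvd_index
    rcases k with _ | _ | k
    · rw [pow_zero, one_mul] at h1
      exact absurd (h1 ▸ by norm_num) h2
    · rw [hk]; rfl
    · exfalso
      rw [pow_succ, pow_succ] at h1
      have h3 : 25 ∣ 2520 := ⟨5 ^ k * (S : Subgroup (alternatingGroup (Fin 7))).index,
        by rw [← h1]; ring⟩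
      norm_num at h3
  exact hasGood_of_cyclic e Fact.out (hcard ▸ by norm_num) S
    (isCyclic_of_prime_card (p := 5) hS) S.not_dvd_index

/-- The conclusion of Walter's theorem. -/
def WalterClass : Prop :=
  ∀ (G : Type u) [Group G] [Finite G] [IsSimpleGroup G], ¬ IsMulCommutative G →
    ∀ S : Sylow 2 G, IsMulCommutative (S : Subgroup G) →
    (∃ a : ℕ, 2 ≤ a ∧ ∃ (F : Type) (_ : Field F) (_ : Fintype F), Fintype.card F = 2 ^ a ∧
        Nonempty (G ≃* Matrix.ProjectiveSpecialLinearGroup (Fin 2) F)) ∨
      (∃ (F : Type) (_ : Field F) (_ : Fintype F),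
        (Fintype.card F % 8 = 3 ∨ Fintype.card F % 8 = 5) ∧
        Nonempty (G ≃* Matrix.ProjectiveSpecialLinearGroup (Fin 2) F)) ∨
      Cfsg.IsRee G ∨ Cfsg.IsJ1 G

/-- A prime dividing the order exactly once is good. -/
theorem hasGood_of_exact {T : Type u} [Group T] [Finite T] {p : ℕ} (hp : p.Prime)
    (h1 : p ∣ Nat.card T) (h2 : ¬ p ^ 2 ∣ Nat.card T) : HasGood T := by
  haveI := Fact.mk hp
  obtain ⟨S⟩ : Nonempty (Sylow p T) := inferInstance
  obtain ⟨k, hk⟩ := S.2.exists_card_eq
  have hd := S.pow_dvd_card_of_pow_dvd_card (n := 1) (by rwa [pow_one])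
  have hk1 : k = 1 := by
    rcases k with _ | _ | k
    · rw [hk, pow_zero, pow_one] at hd
      exact absurd (Nat.dvd_one.1 hd) hp.ne_one
    · rfl
    · exact absurd ((pow_dvd_pow p (show 2 ≤ k + 2 by omega)).trans
        (hk ▸ (S : Subgroup T).card_subgroup_dvd_card)) h2
  exact hasGood_of_cyclic (MulEquiv.refl T) hp h1 S
    (isCyclic_of_prime_card (p := p) (by rw [hk, hk1, pow_one])) S.not_dvd_index

/-- A simple group with an abelian Sylow 2-subgroup has a good prime. -/
theorem hasGood_of_abelian (W : WalterClass.{u}) {T : Type u} [Group T] [Finite T] [IsSimpleGroup T]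
    (hT : ¬ IsMulCommutative T) (S : Sylow 2 T) (hS : IsMulCommutative (S : Subgroup T)) :
    HasGood T := by
  have hgood8 : ∀ m : ℕ, Nat.card T = 8 * m → m % 2 = 1 → HasGood T := by
    intro m hm hodd
    haveI : Fact (Nat.Prime 2) := ⟨Nat.prime_two⟩
    have h8 : Nat.card (S : Subgroup T) = 8 := by
      rw [S.card_eq_multiplicity, hm,
        Nat.factorization_mul (by norm_num) (by omega), Finsupp.add_apply,
        Nat.factorization_eq_zero_of_not_dvd (show ¬ 2 ∣ m by omega),
        show (8 : ℕ) = 2 ^ 3 from rfl, Nat.Prime.factorization_pow Nat.prime_two,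
        Finsupp.single_eq_same]
    exact ⟨2, Nat.prime_two, hm ▸ Dvd.dvd.mul_right (by norm_num) m,
      good_two_of_card_eight hT S hS h8⟩
  rcases W T hT S hS with ⟨a, ha, F, _, _, hF, ⟨e⟩⟩ | ⟨F, _, _, hF, ⟨e⟩⟩ | hR | hJ
  · refine hasGood_pslTwo ?_ e
    rw [hF]
    calc 3 < 2 ^ 2 := by norm_num
      _ ≤ 2 ^ a := Nat.pow_le_pow_right (by norm_num) ha
  · by_cases h3 : 3 < Fintype.card F
    · exact hasGood_pslTwo h3 e
    have hF3 : Fintype.card F = 3 := by rcases hF with hF | hF <;> omega
    have hd : Nat.card T ∣ 24 := by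
      rw [Nat.card_congr e.toEquiv]
      refine (Subgroup.card_quotient_dvd_card _).trans ?_
      rw [CfsgLib.Schur.natCard_slTwo (F := F), hF3]
    obtain ⟨p, hp, hpd, hp2⟩ : ∃ p : ℕ, p.Prime ∧ p ∣ Nat.card T ∧ ¬ p ^ 2 ∣ Nat.card T := by
      by_contra! h
      -- otherwise `T` is a `2`-group
      haveI : Fact (Nat.Prime 2) := ⟨Nat.prime_two⟩
      have hd8 : Nat.card T ∣ 8 := by
        have h3' : ¬ 3 ∣ Nat.card T := fun h3 => by
          have := (h 3 (by norm_num) h3).trans hd
          norm_num at this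
        exact ((Nat.prime_three.coprime_iff_not_dvd.2 h3').symm).dvd_of_dvd_mul_left
          (show Nat.card T ∣ 3 * 8 by simpa using hd)
      obtain ⟨k, -, hk⟩ := (Nat.dvd_prime_pow Nat.prime_two).1 (show Nat.card T ∣ 2 ^ 3 from hd8)
      have hTp : IsPGroup 2 T := IsPGroup.of_card hk
      haveI : Nontrivial (Subgroup.center T) := hTp.center_nontrivial
      rcases (inferInstance : (Subgroup.center T).Normal).eq_bot_or_eq_top with hb | ht
      · exact (Subgroup.nontrivial_iff_ne_bot _).1 inferInstance hb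
      · exact hT ⟨⟨fun a b => Subgroup.mem_center_iff.1 (ht ▸ Subgroup.mem_top b) a⟩⟩
    exact hasGood_of_exact hp hpd hp2
  · obtain ⟨-, m, -, hcard⟩ := hR
    set q := 3 ^ (2 * m + 1) with hqdef
    have hq8 : q % 8 = 3 := by
      rw [hqdef, pow_succ, pow_mul, Nat.mul_mod, Nat.pow_mod]
      norm_num
    obtain ⟨k, hk⟩ : ∃ k, q = 8 * k + 3 := ⟨q / 8, by omega⟩
    refine hgood8 (q ^ 3 * ((128 * k ^ 3 + 144 * k ^ 2 + 54 * k + 7) * (4 * k + 1))) ?_ ?_
    · rw [hcard, hk, show 8 * k + 3 - 1 = 8 * k + 2 by omega]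
      ring
    · have hqo : q ^ 3 % 2 = 1 := by rw [Nat.pow_mod, show q % 2 = 1 by omega]
      rw [Nat.mul_mod, hqo, one_mul, Nat.mod_mod, Nat.mul_mod,
        show (128 * k ^ 3 + 144 * k ^ 2 + 54 * k + 7) % 2 = 1 by omega,
        show (4 * k + 1) % 2 = 1 by omega]
  · exact hgood8 21945 (by rw [hJ.2]) (by norm_num)

/-- A non-commutative Sylow 2-subgroup of order eight in a simple group is dihedral. -/
theorem nonempty_dihedral_of_card_eight {T : Type u} [Group T] [Finite T] [IsSimpleGroup T]
    (hT : ¬ IsMulCommutative T) (S : Sylow 2 T) (h8 : Nat.card (S : Subgroup T) = 8)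
    (hna : ¬ ∀ a b : (S : Subgroup T), a * b = b * a) :
    Nonempty ((S : Subgroup T) ≃* DihedralGroup 4) := by
  classical
  refine (CfsgLib.Small.order_eight_dihedral_or_many_four h8 hna).resolve_right fun h4 => ?_
  haveI : Fact (Nat.Prime 2) := ⟨Nat.prime_two⟩
  -- a central involution
  obtain ⟨⟨z, hz⟩, hzord⟩ := exists_prime_orderOf_dvd_card'
    (G := Subgroup.center (S : Subgroup T)) 2 (by
      haveI : Nontrivial (S : Subgroup T) := Finite.one_lt_card_iff_nontrivial.1 (by omega)
      haveI := S.2.center_nontrivial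
      obtain ⟨k, hk⟩ := (S.2.to_subgroup (Subgroup.center (S : Subgroup T))).exists_card_eq
      have := Finite.one_lt_card_iff_nontrivial.2
        (inferInstance : Nontrivial (Subgroup.center (S : Subgroup T)))
      rw [hk] at this ⊢
      exact dvd_pow_self 2 (by rintro rfl; simp at this))
  rw [Subgroup.orderOf_mk] at hzord
  have hzT : orderOf (z : T) = 2 := by rwa [Subgroup.orderOf_coe]
  -- a further involution
  obtain ⟨g, hg, hne⟩ : ∃ g : T, g * z * g⁻¹ ∈ (S : Subgroup T) ∧ g * z * g⁻¹ ≠ z := by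
    by_contra! h
    exact no_isolated hT (z : T) (isolated_of_only_conj S z.2 hzT h)
  set y : (S : Subgroup T) := ⟨g * z * g⁻¹, hg⟩ with hy
  have hz2 : z * z = 1 := by
    have h := pow_orderOf_eq_one z
    rwa [hzord, pow_two] at h
  have hy2 : y * y = 1 := Subtype.ext (by
    show g * (z : T) * g⁻¹ * (g * z * g⁻¹) = 1
    rw [show g * (z : T) * g⁻¹ * (g * z * g⁻¹) = g * (z * z : T) * g⁻¹ by group,
      show (z : T) * z = 1 from congrArg Subtype.val hz2]
    simp)
  have hzy : z ≠ y := fun h => hne (congrArg Subtype.val h).symm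
  have hzc : ∀ a, a * z = z * a := fun a => Subgroup.mem_center_iff.1 hz a
  -- all other elements have order four
  haveI : Fintype (S : Subgroup T) := Fintype.ofFinite _
  set V : Finset (S : Subgroup T) := {1, z, y, z * y} with hV
  have hz1 : z ≠ 1 := fun h => by rw [h, orderOf_one] at hzord; omega
  have hy1 : y ≠ 1 := fun h => hz1 (by
    have h1 : g * (z : T) * g⁻¹ = 1 := congrArg Subtype.val h
    exact Subtype.ext (conj_eq_one_iff.1 h1))
  have hzy1 : z * y ≠ 1 := fun h => hzy (by
    rw [← inv_eq_of_mul_eq_one_right h, inv_eq_of_mul_eq_one_right hz2])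
  have hVcard : V.card = 4 := by
    rw [hV, Finset.card_insert_of_notMem, Finset.card_insert_of_notMem, Finset.card_pair]
    · exact fun h => hz1 (right_eq_mul.1 h)
    · simp only [Finset.mem_insert, Finset.mem_singleton, not_or]
      exact ⟨hzy, fun h => hy1 (left_eq_mul.1 h)⟩
    · simp only [Finset.mem_insert, Finset.mem_singleton, not_or]
      exact ⟨hz1.symm, hy1.symm, hzy1.symm⟩
  have hVsq : ∀ a ∈ V, a * a = 1 := by
    intro a ha
    simp only [hV, Finset.mem_insert, Finset.mem_singleton] at ha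
    rcases ha with rfl | rfl | rfl | rfl
    · simp
    · exact hz2
    · exact hy2
    · calc z * y * (z * y) = z * (y * z) * y := by group
        _ = z * z * (y * y) := by rw [hzc y]; group
        _ = 1 := by rw [hz2, hy2, one_mul]
  have hout : ∀ a, a ∉ V → a * a ≠ 1 := by
    intro a ha h
    have hsub : (Finset.univ.filter fun t : (S : Subgroup T) => orderOf t = 4) ⊆
        (insert a V)ᶜ := by
      intro t ht
      rw [Finset.mem_compl, Finset.mem_insert]
      rintro (rfl | htV)
      · have := orderOf_dvd_of_pow_eq_one (show t ^ 2 = 1 by rw [pow_two]; exact h)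
        rw [(Finset.mem_filter.1 ht).2] at this
        norm_num at this
      · have := orderOf_dvd_of_pow_eq_one (show t ^ 2 = 1 by rw [pow_two]; exact hVsq t htV)
        rw [(Finset.mem_filter.1 ht).2] at this
        norm_num at this
    have := Finset.card_le_card hsub
    rw [Finset.card_compl, Finset.card_insert_of_notMem ha, hVcard,
      ← Nat.card_eq_fintype_card, h8] at this
    rw [Nat.card_eq_fintype_card, Fintype.card_subtype] at h4
    omega
  obtain ⟨x, hx⟩ : ∃ x, x ∉ V := by
    by_contra! h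
    have := Finset.card_le_card (show (Finset.univ : Finset (S : Subgroup T)) ⊆ V from fun a _ => h a)
    rw [Finset.card_univ, ← Nat.card_eq_fintype_card, h8, hVcard] at this
    omega
  -- the closure of `V`
  have hVm : ∀ a ∈ V, ∀ b ∈ V, a * b ∈ V := by
    have hyz : y * z = z * y := hzc y
    have e1 : ∀ a, z * (z * a) = a := fun a => by rw [← mul_assoc, hz2, one_mul]
    have e2 : ∀ a, y * (y * a) = a := fun a => by rw [← mul_assoc, hy2, one_mul]
    have e3 : y * (z * y) = z := by rw [← mul_assoc, hzc y, mul_assoc, hy2, mul_one]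
    intro a ha b hb
    simp only [hV, Finset.mem_insert, Finset.mem_singleton] at ha hb ⊢
    rcases ha with rfl | rfl | rfl | rfl <;> rcases hb with rfl | rfl | rfl | rfl <;>
      simp [hz2, hy2, hyz, e1, e3, mul_assoc]
  let Vg : Subgroup (S : Subgroup T) :=
    { carrier := {a | a ∈ V}
      one_mem' := by simp [hV]
      mul_mem' := fun {a b} ha hb => hVm a ha b hb
      inv_mem' := fun {a} ha => by
        rw [Set.mem_setOf_eq, inv_eq_of_mul_eq_one_right (hVsq a ha)]; exact ha }
  have hVidx : Vg.index = 2 := by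
    have h1 := Vg.card_mul_index
    have : Nat.card Vg = 4 := by
      rw [← hVcard, ← Nat.card_eq_finsetCard]
      rfl
    rw [this, h8] at h1
    omega
  have hxV : x ∉ Vg := hx
  have hyV : y ∈ Vg := by show y ∈ V; simp [hV]
  have hxy : x * y ≠ y * x := by
    intro h
    refine hna fun a b => ?_
    -- everything is central
    have hcz : ∀ a, a ∈ Subgroup.centralizer ({y} : Set (S : Subgroup T)) := by
      have hle : Vg ≤ Subgroup.centralizer {y} := fun a ha => by
        simp only [Subgroup.mem_centralizer_singleton_iff]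
        change a ∈ V at ha
        simp only [hV, Finset.mem_insert, Finset.mem_singleton] at ha
        rcases ha with rfl | rfl | rfl | rfl <;> simp [hzc y, mul_assoc]
        rw [hy2, ← hzc y, ← mul_assoc y y z, hy2, mul_one, one_mul]
      intro a
      by_cases ha : a ∈ Vg
      · exact hle ha
      · have h1 : a * x⁻¹ ∈ Vg :=
          (Subgroup.mul_mem_iff_of_index_two hVidx).2 (by simp [ha, hxV])
        have h2 := mul_mem (hle h1)
          (show x ∈ Subgroup.centralizer {y} from Subgroup.mem_centralizer_singleton_iff.2 h)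
        rwa [inv_mul_cancel_right] at h2
    have hVc : ∀ v ∈ Vg, ∀ a, a * v = v * a := by
      intro v hv a
      change v ∈ V at hv
      simp only [hV, Finset.mem_insert, Finset.mem_singleton] at hv
      have hay := Subgroup.mem_centralizer_singleton_iff.1 (hcz a)
      rcases hv with rfl | rfl | rfl | rfl
      · simp
      · exact hzc a
      · exact hay
      · rw [← mul_assoc, hzc a, mul_assoc, hay, ← mul_assoc]
    have hxc : ∀ a, a * x = x * a := by
      intro a
      by_cases ha : a ∈ Vg
      · exact (hVc a ha x).symm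
      · have h1 : a * x⁻¹ ∈ Vg :=
          (Subgroup.mul_mem_iff_of_index_two hVidx).2 (by simp [ha, hxV])
        calc a * x = (a * x⁻¹) * x * x := by group
          _ = x * (a * x⁻¹) * x := by rw [hVc _ h1 x]
          _ = x * a := by group
    by_cases ha : a ∈ Vg
    · exact (hVc a ha b).symm
    · have h1 : a * x⁻¹ ∈ Vg :=
        (Subgroup.mul_mem_iff_of_index_two hVidx).2 (by simp [ha, hxV])
      calc a * b = (a * x⁻¹) * (x * b) := by group
        _ = (a * x⁻¹) * (b * x) := by rw [hxc b]
        _ = b * (a * x⁻¹) * x := by rw [← mul_assoc, hVc _ h1 b]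
        _ = b * a := by group
  haveI := Subgroup.normal_of_index_eq_two hVidx
  have hconj : x * y * x⁻¹ = z * y := by
    have hmem : x * y * x⁻¹ ∈ V := (inferInstance : Vg.Normal).conj_mem y hyV x
    simp only [hV, Finset.mem_insert, Finset.mem_singleton] at hmem
    rcases hmem with h | h | h | h
    · exact absurd (conj_eq_one_iff.1 h) hy1
    · exfalso
      rw [mul_inv_eq_iff_eq_mul, ← hzc x] at h
      exact hzy (mul_left_cancel h).symm
    · exact absurd (mul_inv_eq_iff_eq_mul.1 h) hxy
    · exact h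
  have hxx : x * x = z := by
    have hmem : x * x ∈ V := by
      have h := Subgroup.sq_mem_of_index_two hVidx x
      rw [pow_two] at h
      exact h
    have hcom : x * (x * x) = x * x * x := by group
    simp only [hV, Finset.mem_insert, Finset.mem_singleton] at hmem
    rcases hmem with h | h | h | h
    · exact absurd h (hout x hx)
    · exact h
    · rw [h] at hcom; exact absurd hcom hxy
    · rw [h] at hcom
      exfalso
      refine hxy (mul_left_cancel (a := z) ?_)
      calc z * (x * y) = x * (z * y) := by rw [← mul_assoc, ← hzc x, mul_assoc]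
        _ = z * (y * x) := by rw [hcom, mul_assoc]
  refine hout (x * y) (fun h => hxV ?_) ?_
  · have := mul_mem (show x * y ∈ Vg from h) (inv_mem hyV)
    rwa [mul_inv_cancel_right] at this
  · calc x * y * (x * y) = x * y * x⁻¹ * (x * x) * y := by group
      _ = z * y * z * y := by rw [hconj, hxx]
      _ = z * (y * z) * y := by group
      _ = z * z * (y * y) := by rw [hzc y]; group
      _ = 1 := by rw [hz2, hy2, one_mul]

/-- A simple group with Sylow 2-subgroups of order eight has a good prime. -/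
theorem hasGood_of_dihedral_eight (GW : CfsgLib.GWCons.RankOneCover.DihedralClassification.{u})
    {T : Type u} [Group T] [Finite T] [IsSimpleGroup T] (hT : ¬ IsMulCommutative T) (S : Sylow 2 T)
    (h8 : Nat.card (S : Subgroup T) = 8) (hna : ¬ ∀ a b : (S : Subgroup T), a * b = b * a) :
    HasGood T := by
  haveI : Fact (Nat.Prime 2) := ⟨Nat.prime_two⟩
  haveI : Group.IsPerfect T := Group.isPerfect_def.2
    ((Subgroup.Normal.eq_bot_or_eq_top (show (_root_.commutator T).Normal by infer_instance)).resolve_left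
      fun h => hT ⟨⟨fun a b => by
        rw [← commutatorElement_eq_one_iff_mul_comm, ← Subgroup.mem_bot, ← h]
        exact Subgroup.commutator_mem_commutator (Subgroup.mem_top _) (Subgroup.mem_top _)⟩⟩)
  obtain ⟨i, hi⟩ := exists_prime_orderOf_dvd_card' (G := T) 2
    ((show 2 ∣ 8 by norm_num).trans (h8 ▸ (S : Subgroup T).card_subgroup_dvd_card))
  have hO : Cfsg.oddCore T = ⊥ := CoreKill.oddCore_eq_bot_of_simple hi
  let e0 : T ⧸ Cfsg.oddCore T ≃* T :=
    (QuotientGroup.quotientMulEquivOfEq hO).trans QuotientGroup.quotientBot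
  rcases GW T S 4 (by norm_num) (nonempty_dihedral_of_card_eight hT S h8 hna) with
    ⟨F, _, _, -, h3, ⟨f⟩⟩ | ⟨⟨f⟩⟩
  · exact hasGood_pslTwo h3 (e0.symm.trans f)
  · exact hasGood_altSeven (e0.symm.trans f)

end CfsgLib.CentralType
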