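import Cfsg.Agent.Lib.CentralType.Main

/-!
# The solvability criterion for fully ramified quotients
-/

set_option autoImplicit false

noncomputable section

namespace CfsgLib.CentralType

open Cfsg

universe u

/-- The statement of S4562 from Walter's and the Gorenstein–Walter theorem. -/
theorem solvable_quotient_of (W : WalterClass.{u})
    (GW : CfsgLib.GWCons.RankOneCover.DihedralClassification.{u}) {H : Type u} [Group H] [Finite H]
    (Z : Subgroup H) [Z.Normal] (χ : Cfsg.IrrCharacter H)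
    (hfr : ∃ (θ : Cfsg.IrrCharacter ↥Z) (e : ℕ), e ^ 2 = Z.index ∧
      ∀ z : ↥Z, (χ : H → ℂ) z = (e : ℂ) * (θ : ↥Z → ℂ) z)
    (hab : ∀ p : ℕ, p.Prime → p ^ 6 ∣ Z.index → ∀ P : Sylow p (H ⧸ Z), IsMulCommutative P) :
    Group.IsSolvable (H ⧸ Z) := by
  obtain ⟨θ, e, he, hres⟩ := hfr
  exact solvable_main W GW Z.index H Z ⟨χ, θ, e, he, hres⟩ rfl hab

end CfsgLib.CentralType
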