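import Cfsg.Agent.Lib.Blk4.FullyRamified
import Cfsg.Agent.Lib.CharCorr.InvariantTriple
import Cfsg.Agent.Lib.CharCorr.QuotientTools
import Cfsg.Agent.Lib.Characters.NormalAvg

/-!
# Groups of central type

A fully ramified triple is moved to a central subgroup on which the character is faithful,
without changing the quotient.
-/

set_option autoImplicit false
set_option linter.unusedSectionVars false
set_option linter.style.haveILetI false

noncomputable section

namespace CfsgLib.CentralType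

open Cfsg CfsgLib.Characters
open scoped ComplexConjugate

universe u

/-- `Z` carries a fully ramified triple. -/
def FR {H : Type u} [Group H] [Finite H] (Z : Subgroup H) : Prop :=
  ∃ (χ : IrrCharacter H) (θ : IrrCharacter Z) (e : ℕ),
    e ^ 2 = Z.index ∧ ∀ z : Z, (χ : H → ℂ) z = (e : ℂ) * (θ : Z → ℂ) z

/-- An irreducible character vanishing off the central subgroup `Z` and faithful on it. -/
structure CT {Γ : Type u} [Group Γ] [Finite Γ] (Z : Subgroup Γ) (χ : IrrCharacter Γ) : Prop where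
  central : Z ≤ Subgroup.center Γ
  vanish : ∀ g, g ∉ Z → (χ : Γ → ℂ) g = 0
  faithful : ∀ z ∈ Z, (χ : Γ → ℂ) z = (χ : Γ → ℂ) 1 → z = 1

/-- Every fully ramified triple has a model of central type with the same quotient. -/
theorem exists_ct {H : Type u} [Group H] [Finite H] (Z : Subgroup H) [Z.Normal] (h : FR Z) :
    ∃ (Γ : Type u) (_ : Group Γ) (_ : Finite Γ) (Z' : Subgroup Γ) (_ : Z'.Normal)
      (χ : IrrCharacter Γ), CT Z' χ ∧ Nonempty (Γ ⧸ Z' ≃* H ⧸ Z) := by
  classical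
  haveI : Fintype H := Fintype.ofFinite H
  haveI : Fintype Z := Fintype.ofFinite Z
  obtain ⟨χ, θ, e, he, hres⟩ := h
  obtain ⟨L, _, _, π, σ, j, hπ, hσ, hπj, hσj, hJn, hker⟩ :=
    CfsgLib.InvariantTriple.exists_lift Z θ (Blk4.FullyRamified.invariant Z χ θ e he hres)
  haveI : Fintype L := Fintype.ofFinite L
  haveI := hJn
  haveI : Fintype j.range := Fintype.ofFinite _
  have hjinj : Function.Injective j := fun a b hab => Subtype.ext (by rw [← hπj a, ← hπj b, hab])
  let ψ : L → ℂ := fun y => (χ : H → ℂ) (π y)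
  have hψ : IsIrrCharacter L ψ := CfsgLib.Clifford.isIrrCharacter_pullback χ.2 π hπ
  let E := MonoidHom.ofInjective hjinj
  have hσJ : IsIrrCharacter j.range fun x : j.range => σ x := by
    convert (CfsgLib.CharCorr.twistIrr E.symm θ).2 using 1
    funext x
    obtain ⟨n, rfl⟩ := E.surjective x
    show σ (j n) = (θ : Z → ℂ) (E.symm (E n))
    rw [E.symm_apply_apply, hσj]
  set μ := CfsgLib.NormalAvg.pairAvg j.range ψ σ with hμ
  have hμ1 : μ 1 = (e : ℂ) := by
    rw [hμ, CfsgLib.NormalAvg.pairAvg_one]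
    have h1 : (fun n : j.range => ψ n) = (e : ℂ) • fun n : j.range => σ n := by
      funext x
      obtain ⟨n, rfl⟩ := E.surjective x
      show (χ : H → ℂ) (π (j n)) = (e : ℂ) * σ (j n)
      rw [hπj, hσj, hres]
    rw [h1, classInner_smul_left, classInner_irr_self hσJ, mul_one]
  have he0 := Blk4.FullyRamified.e_ne_zero Z e he
  have hμ0 : μ 1 ≠ 0 := by rw [hμ1]; exact he0
  have hμirr : IsIrrCharacter L μ :=
    CfsgLib.NormalAvg.isIrrCharacter_pairAvg j.range hψ hσ hσJ
      (by rw [← CfsgLib.NormalAvg.pairAvg_one]; exact hμ0)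
  have hμJ : ∀ (n : j.range) (y : L), μ (y * n) = μ y := fun n y =>
    CfsgLib.NormalAvg.avgN_mul_right j.range _ n y
  have hμker : ∀ z, π z = 1 → ∃ c : ℂ, ∀ y, μ (y * z) = c * μ y := by
    intro z hz
    obtain ⟨-, c, hc⟩ := hker z hz
    refine ⟨conj (c : ℂ), fun y => ?_⟩
    simp only [hμ, CfsgLib.NormalAvg.pairAvg_apply]
    simp_rw [← mul_assoc (_ : L) y z, hc, ψ, map_mul, hz, mul_one, Finset.mul_sum]
    exact Finset.sum_congr rfl fun n _ => by ring
  have hdec : ∀ y ∈ Z.comap π, ∃ (n : Z) (z : L), π z = 1 ∧ y = z * j n := by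
    intro y hy
    refine ⟨⟨π y, hy⟩, y * (j ⟨π y, hy⟩)⁻¹, ?_, by simp⟩
    rw [map_mul, map_inv, hπj, mul_inv_cancel]
  have hscal : ∀ y ∈ Z.comap π, ∀ x, μ (x * y) = μ y / μ 1 * μ x := by
    intro y hy x
    obtain ⟨n, z, hz, rfl⟩ := hdec y hy
    obtain ⟨c, hc⟩ := hμker z hz
    have h1 : ∀ x, μ (x * (z * j n)) = c * μ x := fun x => by
      rw [← mul_assoc, hμJ ⟨_, n, rfl⟩, hc]
    have h2 : μ (z * j n) = c * μ 1 := by rw [← h1 1, one_mul]
    rw [h1, h2, mul_div_assoc, div_self hμ0, mul_one]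
  have hvan : ∀ y, y ∉ Z.comap π → μ y = 0 := by
    intro y hy
    simp only [hμ, CfsgLib.NormalAvg.pairAvg_apply]
    rw [Finset.sum_eq_zero, mul_zero]
    rintro ⟨_, n, rfl⟩ -
    have : (χ : H → ℂ) (π (j n * y)) = 0 :=
      Blk4.FullyRamified.vanish_off Z χ θ e he hres fun hm => hy (by
        rw [map_mul, hπj] at hm
        exact (Z.mul_mem_cancel_left n.2).1 hm)
    simp only [ψ, this, zero_mul]
  let K : Subgroup L :=
    { carrier := {y | y ∈ Z.comap π ∧ ∀ x, μ (x * y) = μ x}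
      one_mem' := ⟨one_mem _, fun x => by rw [mul_one]⟩
      mul_mem' := fun {a b} ha hb => ⟨mul_mem ha.1 hb.1, fun x => by rw [← mul_assoc, hb.2, ha.2]⟩
      inv_mem' := fun {a} ha => ⟨inv_mem ha.1, fun x => by
        rw [← ha.2 (x * a⁻¹), inv_mul_cancel_right]⟩ }
  have hcomm : ∀ y ∈ Z.comap π, ∀ g : L, y⁻¹ * (g * y * g⁻¹) ∈ j.range := by
    intro y hy g
    obtain ⟨n, z, hz, rfl⟩ := hdec y hy
    have hzc := Subgroup.mem_center_iff.1 (hker z hz).1
    have e1 : g * (z * j n) * g⁻¹ = z * (g * j n * g⁻¹) := by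
      rw [← mul_assoc, hzc g]; simp [mul_assoc]
    rw [e1, mul_inv_rev, mul_assoc, inv_mul_cancel_left]
    exact mul_mem (inv_mem ⟨n, rfl⟩) (hJn.conj_mem _ ⟨n, rfl⟩ g)
  haveI hK : K.Normal := ⟨fun y hy g => by
    refine ⟨(inferInstance : (Z.comap π).Normal).conj_mem y hy.1 g, fun x => ?_⟩
    have e1 : x * (g * y * g⁻¹) = x * y * (⟨_, hcomm y hy.1 g⟩ : j.range).1 := by
      simp [mul_assoc]
    rw [e1, hμJ, hy.2]⟩
  let mk := QuotientGroup.mk' K
  have hmk : Function.Surjective mk := QuotientGroup.mk'_surjective K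
  let F : L ⧸ K → ℂ := fun q => μ (Function.surjInv hmk q)
  have hF : ∀ y, F (mk y) = μ y := by
    intro y
    have h1 := Function.surjInv_eq hmk (mk y)
    obtain ⟨k, hk, h2⟩ := (QuotientGroup.mk'_eq_mk' K).1 h1
    show μ (Function.surjInv hmk (mk y)) = μ y
    exact ((hk.2 _).symm.trans (congrArg μ h2))
  have hFirr : IsIrrCharacter (L ⧸ K) F :=
    CfsgLib.CharCorrQ.isIrrCharacter_of_pullback mk hmk (by
      convert hμirr using 1
      funext y; exact hF y)
  let Z' := (Z.comap π).map mk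
  haveI : Z'.Normal := Subgroup.Normal.map inferInstance mk hmk
  have hZ'c : Z'.comap mk = Z.comap π := by
    rw [Subgroup.comap_map_eq, QuotientGroup.ker_mk']
    exact sup_eq_left.2 fun y hy => hy.1
  refine ⟨L ⧸ K, inferInstance, inferInstance, Z', inferInstance, ⟨F, hFirr⟩,
    ⟨?_, fun g hg => ?_, ?_⟩, ?_⟩
  · rintro _ ⟨y, hy, rfl⟩
    refine Subgroup.mem_center_iff.2 fun q => ?_
    obtain ⟨g, rfl⟩ := hmk q
    have hk : y⁻¹ * (g * y * g⁻¹) ∈ K := by
      refine ⟨?_, fun x => hμJ ⟨_, hcomm y hy g⟩ x⟩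
      obtain ⟨n, hn⟩ := hcomm y hy g
      rw [← hn]
      show π (j n) ∈ Z
      rw [hπj]; exact n.2
    have h1 : mk (g * y * g⁻¹) = mk y := by
      refine ((QuotientGroup.mk'_eq_mk' K).2 ⟨_, hk, ?_⟩).symm
      simp
    rw [map_mul, map_mul, map_inv, mul_inv_eq_iff_eq_mul] at h1
    exact h1
  · obtain ⟨y, rfl⟩ := hmk g
    show F (mk y) = 0
    rw [hF]
    exact hvan y fun h => hg ⟨y, h, rfl⟩
  · rintro _ ⟨y, hy, rfl⟩ hy1
    replace hy1 : F (mk y) = F 1 := hy1
    rw [hF, ← map_one mk, hF] at hy1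
    exact (QuotientGroup.eq_one_iff y).2 ⟨hy, fun x => by
      rw [hscal y hy x, hy1, div_self hμ0, one_mul]⟩
  · let f : (L ⧸ K) →* H ⧸ Z := QuotientGroup.lift K ((QuotientGroup.mk' Z).comp π) fun y hy =>
      (QuotientGroup.eq_one_iff (π y)).2 hy.1
    have hf : Function.Surjective f := fun q => by
      obtain ⟨h, rfl⟩ := QuotientGroup.mk_surjective q
      obtain ⟨y, rfl⟩ := hπ h
      exact ⟨mk y, rfl⟩
    have hfk : f.ker = Z' := by
      ext q
      obtain ⟨y, rfl⟩ := hmk q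
      show f (mk y) = 1 ↔ mk y ∈ Z'
      rw [← Subgroup.mem_comap, hZ'c]
      exact QuotientGroup.eq_one_iff (π y)
    exact ⟨(QuotientGroup.quotientMulEquivOfEq hfk.symm).trans
      (QuotientGroup.quotientKerEquivOfSurjective f hf)⟩

namespace CT

variable {Γ : Type u} [Group Γ] [Fintype Γ] {Z : Subgroup Γ} {χ : IrrCharacter Γ} (h : CT Z χ)

include h

theorem normal : Z.Normal := ⟨fun z hz g => by
  rwa [Subgroup.mem_center_iff.1 (h.central hz) g, mul_inv_cancel_right]⟩

/-- The values on `Z` are multiples of a linear character. -/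
theorem mul_left {z : Γ} (hz : z ∈ Z) (g : Γ) :
    (χ : Γ → ℂ) (z * g) = (χ : Γ → ℂ) z * (χ : Γ → ℂ) g / (χ : Γ → ℂ) 1 := by
  have h1 := irr_one_ne_zero χ
  obtain ⟨d, ρ, hρ, hχ⟩ := χ.2
  rw [← hχ] at h1 ⊢
  obtain ⟨c, hc⟩ := CfsgLib.CharScalar.exists_scalar ρ (ρ z) fun g => by
    rw [← map_mul, ← map_mul, Subgroup.mem_center_iff.1 (h.central hz) g]
  have hv : ∀ g, ρ.character (z * g) = c * ρ.character g := fun g => by
    simp only [Representation.character, map_mul, hc, smul_mul_assoc, one_mul, map_smul, smul_eq_mul]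
  rw [hv, show ρ.character z = c * ρ.character 1 by rw [← hv, mul_one], mul_right_comm,
    mul_div_assoc, div_self h1, mul_one]

end CT

end CfsgLib.CentralType
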