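import Cfsg.Agent.Lib.CentralType.Cases

/-!
# Fully ramified quotients with abelian Sylow subgroups at large primes are solvable
-/

set_option autoImplicit false
set_option linter.unusedSectionVars false
set_option linter.style.haveILetI false

noncomputable section

namespace CfsgLib.CentralType

open Cfsg CfsgLib.Characters CfsgLib.Structure
open scoped commutatorElement ComplexConjugate

universe u

namespace CT

variable {Γ : Type u} [Group Γ] [Fintype Γ] {Z : Subgroup Γ} {χ : IrrCharacter Γ} (h : CT Z χ)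

include h

/-- Nothing outside `Z` is central. -/
theorem center_le : Subgroup.center Γ ≤ Z := by
  intro g hg
  by_contra hgZ
  obtain ⟨d, ρ, hρ, hχ⟩ := χ.2
  obtain ⟨c, hc⟩ := CfsgLib.CharScalar.exists_scalar ρ (ρ g) fun y => by
    rw [← map_mul, ← map_mul, Subgroup.mem_center_iff.1 hg y]
  have hv : ρ.character g = c * ρ.character 1 := by
    simp [Representation.character, hc, map_smul]
  have h0 := h.vanish g hgZ
  rw [← hχ, hv] at h0
  have h1 := irr_one_ne_zero χ
  rw [← hχ] at h1
  have hc0 : c = 0 := (mul_eq_zero.1 h0).resolve_right h1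
  have h2 : ρ 1 = 0 := by
    rw [← mul_inv_cancel g, map_mul, hc, hc0, zero_smul, zero_mul]
  exact h1 (by simp [Representation.character, h2])

/-- With a quotient of order sixteen no element has order eight. -/
theorem orderOf_ne_eight [Z.Normal] (h16 : Z.index = 16) (x : Γ ⧸ Z) : orderOf x ≠ 8 := by
  intro h8
  let mk := QuotientGroup.mk' Z
  have hmk : Function.Surjective mk := QuotientGroup.mk'_surjective Z
  set Q := (Subgroup.zpowers x).comap mk with hQ
  obtain ⟨u, rfl⟩ := hmk x
  have hrel : Z.relIndex Q = 8 := by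
    have h1 := Subgroup.relIndex_comap (⊥ : Subgroup (Γ ⧸ Z)) mk Q
    rw [MonoidHom.comap_bot, QuotientGroup.ker_mk', hQ,
      Subgroup.map_comap_eq_self_of_surjective hmk, Subgroup.relIndex_bot_left,
      Nat.card_zpowers, h8] at h1
    exact h1
  have hdec : ∀ q ∈ Q, ∃ (i : ℤ) (z : Γ), z ∈ Z ∧ q = u ^ i * z := by
    intro q hq
    obtain ⟨i, hi⟩ := Subgroup.mem_zpowers_iff.1 (show mk q ∈ Subgroup.zpowers (mk u) from hq)
    refine ⟨i, (u ^ i)⁻¹ * q, (QuotientGroup.eq_one_iff _).1 ?_, by group⟩
    show mk ((u ^ i)⁻¹ * q) = 1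
    rw [map_mul, map_inv, map_zpow, hi, inv_mul_cancel]
  have hle := h.relIndex_mul_le Q Q
    (fun z hz => show mk z ∈ Subgroup.zpowers (mk u) by
      rw [show mk z = 1 from (QuotientGroup.eq_one_iff z).2 hz]; exact one_mem _)
    le_rfl (by
      intro a ha b hb
      obtain ⟨i, z, hz, rfl⟩ := hdec a ha
      obtain ⟨j, w, hw, rfl⟩ := hdec b hb
      have hzc := Subgroup.mem_center_iff.1 (h.central hz)
      have hwc := Subgroup.mem_center_iff.1 (h.central hw)
      calc u ^ i * z * (u ^ j * w) = u ^ i * (z * u ^ j) * w := by group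
        _ = u ^ i * u ^ j * (z * w) := by rw [← hzc (u ^ j)]; group
        _ = u ^ j * u ^ i * (w * z) := by rw [← zpow_add, add_comm, zpow_add, hwc z]
        _ = u ^ j * (u ^ i * w) * z := by group
        _ = u ^ j * w * (u ^ i * z) := by rw [hwc (u ^ i)]; group)
  rw [hrel, h16] at hle
  omega

/-- With a non-commutative quotient of order sixteen the centre is not cyclic. -/
theorem not_isCyclic_center [Z.Normal] (h16 : Z.index = 16)
    (hna : ¬ ∀ a b : Γ ⧸ Z, a * b = b * a) : ¬ IsCyclic (Subgroup.center (Γ ⧸ Z)) := by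
  intro hcyc
  let mk := QuotientGroup.mk' Z
  have hmk : Function.Surjective mk := QuotientGroup.mk'_surjective Z
  have hcard : Nat.card (Γ ⧸ Z) = 16 := h16
  have h4 := card_center_eq_four hcard hna (h.orderOf_ne_eight h16)
  obtain ⟨⟨z, hz⟩, hgen⟩ := IsCyclic.exists_generator (α := Subgroup.center (Γ ⧸ Z))
  have hzord : orderOf z = 4 := by
    rw [← Subgroup.orderOf_mk z hz, orderOf_eq_card_of_forall_mem_zpowers hgen, h4]
  obtain ⟨u, rfl⟩ := hmk z
  have hu2 : u * u ∉ Z := by
    intro hu
    have : mk u ^ 2 = 1 := by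
      rw [pow_two, ← map_mul]
      exact (QuotientGroup.eq_one_iff _).2 hu
    have := orderOf_dvd_of_pow_eq_one this
    rw [hzord] at this
    norm_num at this
  obtain ⟨v, hv⟩ : ∃ v, v * (u * u) ≠ u * u * v := by
    by_contra! hc
    exact hu2 (h.center_le (Subgroup.mem_center_iff.2 hc))
  have hzc : ∀ w ∈ Z, ∀ g : Γ, g * w = w * g := fun w hw g =>
    Subgroup.mem_center_iff.1 (h.central hw) g
  set t := ⁅v, u⁆ with ht
  have htZ : t ∈ Z := (QuotientGroup.eq_one_iff _).1 (by
    show mk ⁅v, u⁆ = 1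
    rw [map_commutatorElement, commutatorElement_eq_one_iff_mul_comm]
    exact Subgroup.mem_center_iff.1 hz (mk v))
  have hvu : v * u * v⁻¹ = t * u := by simp [ht, commutatorElement_def, mul_assoc]
  -- `v ^ 2` commutes with `u`
  obtain ⟨i, hi⟩ := Subgroup.mem_zpowers_iff.1
    (hgen ⟨mk (v * v), by rw [map_mul]; exact sq_mem_center hcard hna h4 (mk v)⟩)
  have hi' : mk u ^ i = mk (v * v) := congrArg Subtype.val hi
  set w := (u ^ i)⁻¹ * (v * v) with hw
  have hwZ : w ∈ Z := (QuotientGroup.eq_one_iff _).1 (by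
    show mk ((u ^ i)⁻¹ * (v * v)) = 1
    rw [map_mul, map_inv, map_zpow, hi', inv_mul_cancel])
  have hvv : v * v * u = u * (v * v) := by
    have e : v * v = u ^ i * w := by rw [hw]; group
    rw [e]
    calc u ^ i * w * u = u ^ i * (w * u) := by group
      _ = u * (u ^ i * w) := by rw [← hzc w hwZ u]; group
  -- hence the commutator squares to one
  have htt : t * t = 1 := by
    have h1 : v * (v * u * v⁻¹) * v⁻¹ = t * (t * u) := by
      rw [hvu]
      calc v * (t * u) * v⁻¹ = (v * t) * u * v⁻¹ := by group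
        _ = t * (v * u * v⁻¹) := by rw [hzc t htZ v]; group
        _ = t * (t * u) := by rw [hvu]
    have h2 : v * (v * u * v⁻¹) * v⁻¹ = u := by
      calc v * (v * u * v⁻¹) * v⁻¹ = v * v * u * (v * v)⁻¹ := by group
        _ = u := by rw [hvv, mul_inv_cancel_right]
    rw [h2, ← mul_assoc] at h1
    exact right_eq_mul.1 h1
  refine hv ?_
  calc v * (u * u) = (v * u * v⁻¹) * (v * u * v⁻¹) * v := by group
    _ = t * (u * t) * u * v := by rw [hvu]; group
    _ = t * t * (u * u) * v := by rw [hzc t htZ u]; group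
    _ = u * u * v := by rw [htt, one_mul]

end CT

/-- The quotient of a fully ramified triple is solvable if its Sylow subgroups are abelian at
the large primes. -/
theorem solvable_main (W : WalterClass.{u})
    (GW : CfsgLib.GWCons.RankOneCover.DihedralClassification.{u}) :
    ∀ n : ℕ, ∀ (H : Type u) [Group H] [Finite H] (Z : Subgroup H) [Z.Normal],
      FR Z → Z.index = n → AbSyl (H ⧸ Z) → Group.IsSolvable (H ⧸ Z) := by
  intro n
  induction n using Nat.strong_induction_on with
  | _ n ih =>
  intro H _ _ Z₀ _ hFR hn hAb₀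
  classical
  obtain ⟨Γ, _, _, Z, _, χ, hct, ⟨e₀⟩⟩ := exists_ct Z₀ hFR
  haveI : Fintype Γ := Fintype.ofFinite Γ
  have hidx : Z.index = n := by
    rw [← hn]
    exact Nat.card_congr e₀.toEquiv
  have hAb : AbSyl (Γ ⧸ Z) := hAb₀.of_injective e₀.toMonoidHom e₀.injective
  suffices Group.IsSolvable (Γ ⧸ Z) by
    haveI := this
    exact Group.isSolvable_of_surjective (f := e₀.toMonoidHom) e₀.surjective
  by_contra hns
  haveI : Nontrivial (Γ ⧸ Z) := by
    by_contra hnt
    rw [not_nontrivial_iff_subsingleton] at hnt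
    exact hns (Group.isSolvable_of_comm fun a b => Subsingleton.elim _ _)
  let mk := QuotientGroup.mk' Z
  have hmk : Function.Surjective mk := QuotientGroup.mk'_surjective Z
  obtain ⟨N, hN⟩ := exists_isMinNormal (G := Γ ⧸ Z)
  haveI := hN.normal
  by_cases hab : IsMulCommutative N
  · -- an abelian minimal normal section
    set R := N.comap mk with hR
    haveI : R.Normal := inferInstance
    have hZR : Z ≤ R := fun z hz => show mk z ∈ N by
      rw [show mk z = 1 from (QuotientGroup.eq_one_iff z).2 hz]; exact one_mem _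
    have hcard : Z.relIndex R = Nat.card N := by
      have h1 := Subgroup.relIndex_comap (⊥ : Subgroup (Γ ⧸ Z)) mk R
      rw [MonoidHom.comap_bot, QuotientGroup.ker_mk', hR,
        Subgroup.map_comap_eq_self_of_surjective hmk, Subgroup.relIndex_bot_left] at h1
      exact h1
    haveI : Nontrivial N := (Subgroup.nontrivial_iff_ne_bot N).2 hN.ne_bot
    obtain ⟨p, hp, hpd⟩ := Nat.exists_prime_and_dvd (Finite.one_lt_card (α := N)).ne'
    haveI := Fact.mk hp
    have hcN : ∀ a b : N, a * b = b * a := hab.is_comm.comm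
    have hPG : IsPGroup p N := by
      let K : Subgroup N := (MonoidHom.mk' (fun a : N => a ^ p) fun a b =>
        (show Commute a b from hcN a b).mul_pow p).ker
      haveI : K.Characteristic := Subgroup.characteristic_iff_map_le.2 fun φ => by
        rintro _ ⟨a, ha, rfl⟩
        have ha' : a ^ p = 1 := ha
        show (φ a) ^ p = 1
        rw [← map_pow, ha', map_one]
      rcases hN.2.2 (K.map N.subtype) inferInstance (Subgroup.map_subtype_le K) with h0 | h0
      · exfalso
        obtain ⟨a, ha⟩ := exists_prime_orderOf_dvd_card' (G := N) p hpd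
        have hmem : (a : Γ ⧸ Z) ∈ K.map N.subtype := ⟨a, by
          show a ^ p = 1
          rw [← ha, pow_orderOf_eq_one], rfl⟩
        rw [h0, Subgroup.mem_bot] at hmem
        rw [show a = 1 from Subtype.ext hmem, orderOf_one] at ha
        exact hp.ne_one ha.symm
      · intro a
        refine ⟨1, ?_⟩
        obtain ⟨b, hb, hba⟩ := (h0.ge a.2 : (a : Γ ⧸ Z) ∈ K.map N.subtype)
        rw [pow_one, ← show b = a from Subtype.ext hba]
        exact hb
    obtain ⟨a, ha⟩ := hPG.exists_card_eq
    have hsol := hct.solvable_of_radical R hZR ?_ ?_ ?_ hp (hcard.trans ha) hAb ?_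
    · haveI := hsol
      exact hns (Group.isSolvable_of_surjective (f := mk) hmk)
    · intro hRZ
      rw [hRZ, Subgroup.relIndex_self] at hcard
      exact (Finite.one_lt_card (α := N)).ne hcard
    · intro x hx y hy
      refine (QuotientGroup.eq_one_iff _).1 ?_
      show mk ⁅x, y⁆ = 1
      rw [map_commutatorElement, commutatorElement_eq_one_iff_mul_comm]
      exact congrArg Subtype.val (hcN ⟨mk x, hx⟩ ⟨mk y, hy⟩)
    · intro K hK hZK hKR
      haveI := hK
      have hKc : (K.map mk).comap mk = K := by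
        rw [Subgroup.comap_map_eq, QuotientGroup.ker_mk']
        exact sup_eq_left.2 hZK
      rcases hN.2.2 (K.map mk) (Subgroup.Normal.map hK mk hmk)
        (by rw [Subgroup.map_le_iff_le_comap]; exact hKR) with h0 | h0
      · exact Or.inl (by rw [← hKc, h0, MonoidHom.comap_bot, QuotientGroup.ker_mk'])
      · exact Or.inr (by rw [← hKc, h0])
    · intro H' _ _ Z' _ hFR' hlt hAb'
      exact ih Z'.index (hidx ▸ hlt) H' Z' hFR' rfl hAb'
  -- the semisimple case
  haveI : Nontrivial N := (Subgroup.nontrivial_iff_ne_bot N).2 hN.ne_bot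
  obtain ⟨A, hA⟩ := exists_isMinNormal (G := N)
  haveI : IsSimpleGroup A := hN.isSimpleGroup_minNormal hA
  have hAna := hN.not_isMulCommutative_minNormal hab hA
  have hkill : HasGood A → False := fun ⟨p, hp, hd, hg⟩ =>
    haveI := Fact.mk hp
    hct.false_of_good hAb hN hab hA hg hd
  haveI : Fact (Nat.Prime 2) := ⟨Nat.prime_two⟩
  obtain ⟨S⟩ : Nonempty (Sylow 2 A) := inferInstance
  by_cases hS : IsMulCommutative (S : Subgroup A)
  · exact hkill (hasGood_of_abelian W hAna S hS)
  let ι : A →* Γ ⧸ Z := N.subtype.comp A.subtype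
  have hι : Function.Injective ι := N.subtype_injective.comp A.subtype_injective
  set P₀ := (S : Subgroup A).map ι with hP₀
  have hcardP₀ : Nat.card P₀ = Nat.card (S : Subgroup A) := Subgroup.card_map_of_injective hι
  have hSna : ¬ ∀ a b : (S : Subgroup A), a * b = b * a := fun hc => hS ⟨⟨hc⟩⟩
  have h6 : ¬ 2 ^ 6 ∣ Nat.card (Γ ⧸ Z) := by
    intro h6
    obtain ⟨P, hP⟩ := (S.2.map ι).exists_le_sylow
    refine hSna fun a b => Subtype.ext (hι ?_)
    simp only [Subgroup.coe_mul, map_mul]
    exact congrArg Subtype.val ((hAb 2 Nat.prime_two h6 P).is_comm.comm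
      ⟨ι a, hP ⟨a, a.2, rfl⟩⟩ ⟨ι b, hP ⟨b, b.2, rfl⟩⟩)
  have h5 : ¬ 2 ^ 5 ∣ Nat.card (Γ ⧸ Z) := by
    intro h5
    obtain ⟨e, he0, -, he⟩ := hct.exists_deg
    refine h6 ?_
    rw [show Nat.card (Γ ⧸ Z) = e ^ 2 from he.symm] at h5 ⊢
    rw [Nat.prime_two.pow_dvd_iff_le_factorization (pow_ne_zero 2 he0), Nat.factorization_pow,
      Finsupp.smul_apply, smul_eq_mul] at h5 ⊢
    omega
  obtain ⟨k, hk⟩ := S.2.exists_card_eq
  have hk4 : k ≤ 4 := by
    by_contra! hk5
    refine h5 ((pow_dvd_pow 2 hk5).trans ?_)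
    rw [← hk, ← hcardP₀]
    exact P₀.card_subgroup_dvd_card
  have hk3 : 3 ≤ k := by
    by_contra! hk3
    refine hSna fun a b => ?_
    interval_cases k
    · haveI : Subsingleton (S : Subgroup A) := (Nat.card_eq_one_iff_unique.1 hk).1
      exact Subsingleton.elim _ _
    · haveI : IsCyclic (S : Subgroup A) := isCyclic_of_prime_card (p := 2) hk
      exact IsCyclic.commutative.is_comm.comm a b
    · exact IsPGroup.commutative_of_card_eq_prime_sq hk a b
  interval_cases k
  · exact hkill (hasGood_of_dihedral_eight GW hAna S hk hSna)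
  -- Sylow subgroups of order sixteen
  have hP2 : ¬ 2 ∣ P₀.index := by
    intro hd
    refine h5 ?_
    rw [← P₀.card_mul_index, hcardP₀, hk, pow_succ 2 4]
    exact mul_dvd_mul_left _ hd
  set T := P₀.comap mk with hT
  haveI : Fintype T := Fintype.ofFinite T
  have hZT : Z ≤ T := fun z hz => show mk z ∈ P₀ by
    rw [show mk z = 1 from (QuotientGroup.eq_one_iff z).2 hz]; exact one_mem _
  have hrel : Z.relIndex T = 16 := by
    have h1 := Subgroup.relIndex_comap (⊥ : Subgroup (Γ ⧸ Z)) mk T
    rw [MonoidHom.comap_bot, QuotientGroup.ker_mk', hT,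
      Subgroup.map_comap_eq_self_of_surjective hmk, Subgroup.relIndex_bot_left, hcardP₀, hk] at h1
    exact h1
  obtain ⟨η, hη⟩ := hct.sylow 2 T hZT ⟨4, hrel⟩
    (by rw [hT, Subgroup.index_comap_of_surjective _ hmk]; exact hP2)
  haveI := hη.normal
  let f : T →* P₀ := (mk.comp T.subtype).codRestrict P₀ fun x => x.2
  have hf : Function.Surjective f := by
    rintro ⟨q, hq⟩
    obtain ⟨x, rfl⟩ := hmk q
    exact ⟨⟨x, hq⟩, rfl⟩
  have hfk : Z.subgroupOf T = f.ker := by
    ext x
    rw [Subgroup.mem_subgroupOf, MonoidHom.mem_ker, Subtype.ext_iff]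
    exact (QuotientGroup.eq_one_iff (x : Γ)).symm
  let eT : T ⧸ Z.subgroupOf T ≃* (S : Subgroup A) :=
    ((QuotientGroup.quotientMulEquivOfEq hfk).trans
      (QuotientGroup.quotientKerEquivOfSurjective f hf)).trans
      ((S : Subgroup A).equivMapOfInjective ι hι).symm
  have h16 : (Z.subgroupOf T).index = 16 := hrel
  refine false_of_sixteen hAna S hk hSna
    (fun x => by rw [← eT.symm.orderOf_eq]; exact hη.orderOf_ne_eight h16 _) fun hcyc => ?_
  refine hη.not_isCyclic_center h16 (fun hc => hSna fun a b =>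
    eT.symm.injective (by rw [map_mul, map_mul]; exact hc _ _)) ?_
  exact isCyclic_of_surjective (Subgroup.centerCongr eT.symm).toMonoidHom
    (Subgroup.centerCongr eT.symm).surjective

end CfsgLib.CentralType
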