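import Cfsg.Agent.Lib.CentralType.Lift
import Cfsg.Agent.Lib.Blk4.FullyRamifiedHall

/-!
# Norm computations for groups of central type
-/

set_option autoImplicit false
set_option linter.unusedSectionVars false
set_option linter.style.haveILetI false

noncomputable section

namespace CfsgLib.CentralType.CT

open Cfsg CfsgLib.Characters
open scoped ComplexConjugate

universe u

variable {Γ : Type u} [Group Γ] [Fintype Γ] {Z : Subgroup Γ} {χ : IrrCharacter Γ} (h : CT Z χ)

include h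

/-- The linear character on `Z`. -/
def lam : Z →* ℂˣ := MonoidHom.toHomUnits
  { toFun := fun z => (χ : Γ → ℂ) z / (χ : Γ → ℂ) 1
    map_one' := by simp [irr_one_ne_zero χ]
    map_mul' := fun a b => by
      simp only [Subgroup.coe_mul]
      rw [h.mul_left a.2]
      ring }

theorem apply_eq (z : Z) : (χ : Γ → ℂ) z = (χ : Γ → ℂ) 1 * (h.lam z : ℂ) := by
  show _ = _ * ((χ : Γ → ℂ) z / (χ : Γ → ℂ) 1)
  rw [mul_div_cancel₀ _ (irr_one_ne_zero χ)]

theorem lam_injective : Function.Injective h.lam := by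
  refine (injective_iff_map_eq_one h.lam).2 fun z hz => Subtype.ext (h.faithful z z.2 ?_)
  rw [h.apply_eq, hz, Units.val_one, mul_one]

theorem normSq_lam (z : Z) : Complex.normSq (h.lam z : ℂ) = 1 := by
  have h1 : ((h.lam z : ℂˣ) : ℂ) ^ orderOf z = 1 := by
    rw [← Units.val_pow_eq_pow_val, ← map_pow, pow_orderOf_eq_one, map_one, Units.val_one]
  rw [Complex.normSq_eq_norm_sq, Complex.norm_eq_one_of_pow_eq_one h1 (orderOf_pos z).ne', one_pow]

theorem exists_deg : ∃ e : ℕ, e ≠ 0 ∧ (χ : Γ → ℂ) 1 = (e : ℂ) ∧ e ^ 2 = Z.index := by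
  classical
  obtain ⟨e, he0, he⟩ := irr_exists_degree χ.2
  refine ⟨e, he0.ne', he, ?_⟩
  have h1 := classInner_irr_self χ.2
  rw [classInner, inv_mul_eq_one₀ (Nat.cast_ne_zero.2 Nat.card_pos.ne')] at h1
  simp only [Complex.mul_conj] at h1
  rw [← Finset.sum_filter_add_sum_filter_not Finset.univ (fun x => x ∈ Z),
    Finset.sum_eq_zero (s := Finset.univ.filter fun x => ¬ x ∈ Z) (fun x hx => by
      rw [h.vanish x (Finset.mem_filter.1 hx).2, map_zero, Complex.ofReal_zero]), add_zero,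
    Finset.sum_subtype (p := fun x => x ∈ Z) _ (by simp),
    Finset.sum_congr rfl (g := fun _ => ((e : ℂ) ^ 2)) (fun z _ => by
      rw [h.apply_eq z, he, map_mul, h.normSq_lam, mul_one, Complex.normSq_natCast]
      push_cast; ring),
    Finset.sum_const, Finset.card_univ, nsmul_eq_mul, ← Nat.card_eq_fintype_card,
    ← Z.card_mul_index] at h1
  have h2 : Nat.card Z * e ^ 2 = Nat.card Z * Z.index := by exact_mod_cast h1.symm
  exact Nat.eq_of_mul_eq_mul_left Nat.card_pos h2

/-- The norm of the restriction to a subgroup containing `Z`. -/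
theorem inner_res (X : Subgroup Γ) [Fintype X] (hZX : Z ≤ X) :
    classInner (fun x : X => (χ : Γ → ℂ) x) (fun x : X => (χ : Γ → ℂ) x) = (X.index : ℂ) := by
  classical
  have h1 := classInner_irr_self χ.2
  rw [classInner, inv_mul_eq_one₀ (Nat.cast_ne_zero.2 Nat.card_pos.ne')] at h1
  unfold classInner
  rw [← Finset.sum_subtype (p := fun x => x ∈ X) (Finset.univ.filter fun x => x ∈ X) (by simp)
      (fun x => (χ : Γ → ℂ) x * conj ((χ : Γ → ℂ) x)),
    Finset.sum_filter_of_ne (fun x _ hx => ?_), ← h1, ← X.card_mul_index, Nat.cast_mul,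
    inv_mul_cancel_left₀ (Nat.cast_ne_zero.2 Nat.card_pos.ne')]
  by_contra hxX
  exact hx (by rw [h.vanish x fun hxZ => hxX (hZX hxZ), zero_mul])

/-- The inner product with a character scalar on `Z` through `lam`. -/
theorem inner_of_scalar (X : Subgroup Γ) [Fintype X] (hZX : Z ≤ X) {f : X → ℂ} (d : ℂ)
    (hf : ∀ z : Z, f ⟨z, hZX z.2⟩ = d * (h.lam z : ℂ)) :
    classInner (fun x : X => (χ : Γ → ℂ) x) f =
      (χ : Γ → ℂ) 1 * conj d * ((Z.relIndex X : ℕ) : ℂ)⁻¹ := by
  classical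
  haveI : Fintype Z := Fintype.ofFinite Z
  unfold classInner
  have hcard : Nat.card X = Nat.card Z * Z.relIndex X := by
    rw [← Nat.card_congr (Subgroup.subgroupOfEquivOfLe hZX).toEquiv, Subgroup.relIndex,
      Subgroup.card_mul_index]
  have hsum : ∑ x : X, (χ : Γ → ℂ) x * conj (f x) =
      ∑ z : Z, (χ : Γ → ℂ) z * conj (f ⟨z, hZX z.2⟩) := by
    rw [← Finset.sum_filter_of_ne (s := (Finset.univ : Finset X)) (p := fun x : X => (x : Γ) ∈ Z)
      (fun x _ hx => by
        by_contra hxZ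
        exact hx (by rw [h.vanish _ hxZ, zero_mul]))]
    refine Finset.sum_bij' (fun x hx => ⟨(x : Γ), (Finset.mem_filter.1 hx).2⟩)
      (fun z _ => ⟨(z : Γ), hZX z.2⟩) ?_ ?_ ?_ ?_ ?_ <;> intros <;> simp
  have hterm : ∀ z : Z, (χ : Γ → ℂ) z * conj (f ⟨z, hZX z.2⟩) = (χ : Γ → ℂ) 1 * conj d := by
    intro z
    rw [hf, h.apply_eq z, map_mul, mul_mul_mul_comm, Complex.mul_conj, h.normSq_lam,
      Complex.ofReal_one, mul_one]
  rw [hsum, Finset.sum_congr rfl fun z _ => hterm z, Finset.sum_const, Finset.card_univ,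
    nsmul_eq_mul, ← Nat.card_eq_fintype_card, hcard, Nat.cast_mul, mul_inv_rev, mul_assoc,
    inv_mul_cancel_left₀ (Nat.cast_ne_zero.2 Nat.card_pos.ne'), mul_comm]

/-- Constituents of a restriction are scalar on `Z` through `lam`. -/
theorem scalar_of_constituent (X : Subgroup Γ) [Fintype X] (hZX : Z ≤ X) (ψ : IrrCharacter X)
    (hψ : classInner (fun x : X => (χ : Γ → ℂ) x) (ψ : X → ℂ) ≠ 0) (z : Z) (x : X) :
    (ψ : X → ℂ) (⟨z, hZX z.2⟩ * x) = (h.lam z : ℂ) * (ψ : X → ℂ) x := by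
  classical
  obtain ⟨d, ρ, hρ, hψρ⟩ := ψ.2
  obtain ⟨c, hc⟩ := CfsgLib.CharScalar.exists_scalar ρ (ρ ⟨z, hZX z.2⟩) fun g => by
    rw [← map_mul, ← map_mul]
    exact congrArg ρ (Subtype.ext (Subgroup.mem_center_iff.1 (h.central z.2) (g : Γ)).symm)
  have hv : ∀ g, (ψ : X → ℂ) (⟨z, hZX z.2⟩ * g) = c * (ψ : X → ℂ) g := fun g => by
    rw [← hψρ]
    simp only [Representation.character, map_mul, hc, smul_mul_assoc, one_mul, map_smul,
      smul_eq_mul]
  rw [hv]
  congr 1
  by_contra hne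
  refine hψ ?_
  set S := ∑ x : X, (χ : Γ → ℂ) x * conj ((ψ : X → ℂ) x) with hS
  have hlam1 : (h.lam z : ℂ) * conj c ≠ 1 := by
    intro h1
    refine hne ?_
    have h2 : (h.lam z : ℂ) * conj (h.lam z : ℂ) = 1 := by
      rw [Complex.mul_conj, h.normSq_lam, Complex.ofReal_one]
    have h3 : conj c = conj (h.lam z : ℂ) :=
      mul_left_cancel₀ (Units.ne_zero (h.lam z)) (h1.trans h2.symm)
    exact (starRingEnd ℂ).injective h3
  have h3 : (h.lam z : ℂ) * conj c * S = S := by
    rw [hS, Finset.mul_sum]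
    refine Fintype.sum_equiv (Equiv.mulLeft (⟨z, hZX z.2⟩ : X)) _ _ fun x => ?_
    simp only [Equiv.coe_mulLeft, Subgroup.coe_mul]
    rw [h.mul_left z.2, hv, h.apply_eq z, map_mul]
    field_simp [irr_one_ne_zero χ]
  have : S = 0 := by
    by_contra hS0
    exact hlam1 ((mul_eq_right₀ hS0).1 h3)
  rw [classInner, ← hS, this, mul_zero]

/-- A subgroup central in a bigger one bounds the index. -/
theorem relIndex_mul_le (Q M : Subgroup Γ) (hZQ : Z ≤ Q) (hQM : Q ≤ M)
    (hc : ∀ q ∈ Q, ∀ m ∈ M, q * m = m * q) : Z.relIndex Q * Z.relIndex M ≤ Z.index := by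
  classical
  haveI : Fintype M := Fintype.ofFinite M
  haveI : Fintype Q := Fintype.ofFinite Q
  haveI : Fintype (Q.subgroupOf M) := Fintype.ofFinite _
  have hZM := hZQ.trans hQM
  obtain ⟨e, he0, he, -⟩ := h.exists_deg
  set F := fun x : M => (χ : Γ → ℂ) x with hF
  have hFc : IsCharacter M F := CfsgLib.Clifford.isCharacter_subtype (irr_isCharacter χ) M
  obtain ⟨m, hm, hsum⟩ := CfsgLib.Clifford.exists_mult hFc
  have hdeg : ∀ ψ : IrrCharacter M, ∃ n : ℕ, 0 < n ∧ (ψ : M → ℂ) 1 = n := fun ψ =>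
    irr_exists_degree ψ.2
  choose deg hdeg0 hdeg using hdeg
  set S := Finset.univ.filter fun ψ : IrrCharacter M => m ψ ≠ 0 with hS
  set k := Z.relIndex M with hk
  have hk0 : 0 < k := Nat.pos_of_ne_zero fun h0 => by
    have := Subgroup.relIndex_mul_index hZM
    rw [← hk, h0, zero_mul] at this
    exact Subgroup.index_ne_zero_of_finite this.symm
  -- the multiplicities
  have hmval : ∀ ψ ∈ S, m ψ * k = e * deg ψ := by
    intro ψ hψ
    have hne : classInner F (ψ : M → ℂ) ≠ 0 := by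
      rw [hm]; exact Nat.cast_ne_zero.2 (Finset.mem_filter.1 hψ).2
    have h1 := h.inner_of_scalar M hZM (f := (ψ : M → ℂ)) ((ψ : M → ℂ) 1) fun z => by
      have := h.scalar_of_constituent M hZM ψ hne z 1
      rw [mul_one] at this
      rw [this, mul_comm]
    rw [← hF, hm, he, hdeg, Complex.conj_natCast, ← hk] at h1
    have : (m ψ : ℂ) * (k : ℂ) = (e : ℂ) * (deg ψ : ℂ) := by
      rw [h1, inv_mul_cancel_right₀ (Nat.cast_ne_zero.2 hk0.ne')]
    exact_mod_cast this
  have hesum : e = ∑ ψ ∈ S, m ψ * deg ψ := by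
    have h1 := congrFun hsum 1
    simp only [hF, Finset.sum_apply, Pi.smul_apply, smul_eq_mul, hdeg, OneMemClass.coe_one,
      he] at h1
    rw [hS, Finset.sum_filter_of_ne (fun ψ _ hψ => left_ne_zero_of_mul hψ)]
    exact_mod_cast h1
  -- degrees
  have hsq : ∀ ψ : IrrCharacter M, deg ψ ^ 2 ≤ Q.relIndex M := by
    intro ψ
    have h1 := classInner_irr_self ψ.2
    rw [classInner, inv_mul_eq_one₀ (Nat.cast_ne_zero.2 Nat.card_pos.ne')] at h1
    simp only [Complex.mul_conj] at h1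
    have h1' : ∑ x : M, Complex.normSq ((ψ : M → ℂ) x) = (Nat.card M : ℝ) := by
      exact_mod_cast h1.symm
    have hcen : ∀ q : Q.subgroupOf M, Complex.normSq ((ψ : M → ℂ) q) = ((deg ψ ^ 2 : ℕ) : ℝ) := by
      intro q
      obtain ⟨d, ρ, hρ, hψρ⟩ := ψ.2
      obtain ⟨c, hc'⟩ := CfsgLib.CharScalar.exists_scalar ρ (ρ (q : M)) fun g => by
        rw [← map_mul, ← map_mul]
        exact congrArg ρ (Subtype.ext (hc _ q.2 _ g.2))
      have hv : ∀ g, (ψ : M → ℂ) ((q : M) * g) = c * (ψ : M → ℂ) g := fun g => by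
        rw [← hψρ]
        simp only [Representation.character, map_mul, hc', smul_mul_assoc, one_mul, map_smul,
          smul_eq_mul]
      have hpow : ∀ n : ℕ, (ψ : M → ℂ) ((q : M) ^ n) = c ^ n * (ψ : M → ℂ) 1 := by
        intro n
        induction n with
        | zero => simp
        | succ n ih => rw [pow_succ', hv, ih]; ring
      have hc1 : c ^ orderOf (q : M) = 1 := by
        have := hpow (orderOf (q : M))
        rw [pow_orderOf_eq_one] at this
        exact (mul_eq_right₀ (irr_one_ne_zero ψ)).1 this.symm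
      rw [show (ψ : M → ℂ) q = c * (ψ : M → ℂ) 1 by rw [← hv, mul_one], hdeg, map_mul,
        Complex.normSq_eq_norm_sq, Complex.norm_eq_one_of_pow_eq_one hc1 (orderOf_pos _).ne',
        one_pow, one_mul, Complex.normSq_natCast]
      push_cast; ring
    have h2 : ∑ q : Q.subgroupOf M, Complex.normSq ((ψ : M → ℂ) q) ≤ (Nat.card M : ℝ) := by
      rw [← h1']
      exact (Finset.sum_subtype (p := fun x : M => x ∈ Q.subgroupOf M)
        (Finset.univ.filter fun x : M => x ∈ Q.subgroupOf M) (by simp)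
        (fun x : M => Complex.normSq ((ψ : M → ℂ) x))).symm.trans_le
        (Finset.sum_le_sum_of_subset_of_nonneg (Finset.subset_univ _)
          fun x _ _ => Complex.normSq_nonneg _)
    rw [Finset.sum_congr rfl fun q _ => hcen q, Finset.sum_const, Finset.card_univ, nsmul_eq_mul,
      ← Nat.card_eq_fintype_card, ← (Q.subgroupOf M).card_mul_index] at h2
    have h3 : Nat.card (Q.subgroupOf M) * deg ψ ^ 2 ≤
        Nat.card (Q.subgroupOf M) * (Q.subgroupOf M).index := by exact_mod_cast h2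
    exact Nat.le_of_mul_le_mul_left h3 Nat.card_pos
  have h1 : k ≤ S.card * Q.relIndex M := by
    have h2 : e * k ≤ e * (S.card * Q.relIndex M) := by
      calc e * k = ∑ ψ ∈ S, m ψ * deg ψ * k := by rw [← Finset.sum_mul, ← hesum]
        _ = ∑ ψ ∈ S, e * deg ψ ^ 2 := Finset.sum_congr rfl fun ψ hψ => by
            rw [mul_right_comm, hmval ψ hψ]; ring
        _ ≤ ∑ _ψ ∈ S, e * Q.relIndex M :=
            Finset.sum_le_sum fun ψ _ => Nat.mul_le_mul_left _ (hsq ψ)
        _ = e * (S.card * Q.relIndex M) := by rw [Finset.sum_const, smul_eq_mul]; ring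
    exact Nat.le_of_mul_le_mul_left h2 (Nat.pos_of_ne_zero he0)
  have h2 : Z.relIndex Q ≤ S.card := by
    rw [hk, ← Subgroup.relIndex_mul_relIndex Z Q M hZQ hQM] at h1
    exact Nat.le_of_mul_le_mul_right h1 (Nat.pos_of_ne_zero fun h0 => by
      have := Subgroup.relIndex_mul_index hQM
      rw [h0, zero_mul] at this
      exact Subgroup.index_ne_zero_of_finite this.symm)
  have h3 : S.card ≤ M.index := by
    have hn := h.inner_res M hZM
    rw [← hF, classInner_self_eq_sum_sq (isClassFunction_of_isCharacter hFc)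
      (m := fun γ => (m γ : ℤ)) (fun γ => by rw [hm γ, Int.cast_natCast])] at hn
    have hn' : ∑ γ, (m γ : ℤ) ^ 2 = (M.index : ℤ) := by exact_mod_cast hn
    have hn'' : ∑ γ, (m γ) ^ 2 = M.index := by exact_mod_cast hn'
    rw [← hn'', hS, Finset.card_eq_sum_ones, Finset.sum_filter]
    refine Finset.sum_le_sum fun γ _ => ?_
    split_ifs with hγ
    · exact Nat.one_le_pow _ _ (Nat.pos_of_ne_zero hγ)
    · exact Nat.zero_le _
  rw [← Subgroup.relIndex_mul_index hZM, ← hk, mul_comm]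
  exact Nat.mul_le_mul_left _ (h2.trans h3)

/-- The restriction to a Sylow subgroup over `Z` is of central type. -/
theorem sylow (p : ℕ) [Fact p.Prime] (T : Subgroup Γ) [Fintype T] (hZT : Z ≤ T)
    (hTp : ∃ k, Z.relIndex T = p ^ k) (hTi : ¬ p ∣ T.index) :
    ∃ η : IrrCharacter T, CT (Z.subgroupOf T) η := by
  classical
  haveI := h.normal
  haveI : Fintype Z := Fintype.ofFinite Z
  obtain ⟨e, -, he, he2⟩ := h.exists_deg
  let θ : IrrCharacter Z := ⟨_, isIrrCharacter_of_hom h.lam⟩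
  have hres : ∀ z : Z, (χ : Γ → ℂ) z = (e : ℂ) * (θ : Z → ℂ) z := fun z => by
    rw [h.apply_eq, he]
  obtain ⟨η, c, f, -, hcf, hres', -, hη⟩ :=
    Blk4.FullyRamified.restrict_sylow Z χ θ e he2 hres p T hZT hTp hTi
  refine ⟨η, fun x hx => ?_, fun x hx => hη x hx, fun x hx h1 => Subtype.ext (h.faithful x hx ?_)⟩
  · exact Subgroup.mem_center_iff.2 fun y => Subtype.ext
      (Subgroup.mem_center_iff.1 (h.central hx) (y : Γ))
  · rw [hres' x, h1, ← hres' 1, OneMemClass.coe_one]

end CfsgLib.CentralType.CT
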