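import Cfsg.Agent.Lib.CentralType.Norms
import Mathlib.LinearAlgebra.Dimension.Constructions
import Mathlib.GroupTheory.PGroup
import Mathlib.GroupTheory.Solvable

/-!
# Groups of central type with an abelian minimal normal section
-/

set_option autoImplicit false
set_option linter.unusedSectionVars false
set_option linter.style.haveILetI false

noncomputable section

namespace CfsgLib.CentralType

open Cfsg CfsgLib.Characters
open scoped ComplexConjugate commutatorElement

universe u

/-- The Sylow subgroups for large primes are commutative. -/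
def AbSyl (G : Type u) [Group G] : Prop :=
  ∀ p : ℕ, p.Prime → p ^ 6 ∣ Nat.card G → ∀ P : Sylow p G, IsMulCommutative P

theorem AbSyl.of_surjective {A B : Type u} [Group A] [Group B] [Finite A] (hA : AbSyl A)
    (f : A →* B) (hf : Function.Surjective f) : AbSyl B := by
  intro p hp hdvd P
  haveI := Fact.mk hp
  haveI : Finite B := Finite.of_surjective f hf
  obtain ⟨Q, rfl⟩ := Sylow.mapSurjective_surjective hf p P
  have hQ := hA p hp (hdvd.trans (Subgroup.card_dvd_of_surjective f hf)) Q
  refine ⟨⟨fun a b => Subtype.ext ?_⟩⟩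
  obtain ⟨x, hx, hxa⟩ := a.2
  obtain ⟨y, hy, hyb⟩ := b.2
  simp only [Subgroup.coe_mul, ← hxa, ← hyb, ← map_mul]
  exact congrArg f (congrArg Subtype.val (hQ.is_comm.comm ⟨x, hx⟩ ⟨y, hy⟩))

theorem AbSyl.of_injective {A B : Type u} [Group A] [Group B] [Finite B] (hB : AbSyl B)
    (f : A →* B) (hf : Function.Injective f) : AbSyl A := by
  intro p hp hdvd P
  haveI := Fact.mk hp
  haveI : Finite A := Finite.of_injective f hf
  obtain ⟨Q, hQ⟩ := (P.2.map f).exists_le_sylow
  have hc := hB p hp (hdvd.trans (Subgroup.card_dvd_of_injective f hf)) Q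
  refine ⟨⟨fun a b => Subtype.ext (hf ?_)⟩⟩
  simp only [Subgroup.coe_mul, map_mul]
  exact congrArg Subtype.val
    (hc.is_comm.comm ⟨f a, hQ ⟨a, a.2, rfl⟩⟩ ⟨f b, hQ ⟨b, b.2, rfl⟩⟩)

/-- The induction hypothesis: smaller fully ramified triples have solvable quotient. -/
def SolvBelow (n : ℕ) : Prop :=
  ∀ (H : Type u) [Group H] [Finite H] (Z : Subgroup H) [Z.Normal],
    FR Z → Z.index < n → AbSyl (H ⧸ Z) → Group.IsSolvable (H ⧸ Z)

/-- There are at most as many linear characters as elements. -/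
theorem card_homs_le (A : Type*) [Group A] [Finite A] : Nat.card (A →* ℂˣ) ≤ Nat.card A := by
  classical
  haveI : Fintype A := Fintype.ofFinite A
  have hli := (linearIndependent_monoidHom A ℂ).comp
    (fun f : A →* ℂˣ => (Units.coeHom ℂ).comp f)
    (fun f g hfg => MonoidHom.ext fun a => Units.ext (DFunLike.congr_fun hfg a))
  haveI : Finite (A →* ℂˣ) := hli.finite
  haveI : Fintype (A →* ℂˣ) := Fintype.ofFinite _
  have h := hli.fintype_card_le_finrank
  rw [Module.finrank_fintype_fun_eq_card] at h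
  simpa only [Nat.card_eq_fintype_card] using h

/-- A `p`-group of automorphisms of a group of order at most `p ^ 2` is smaller than it. -/
theorem card_lt_of_isPGroup_aut {p a : ℕ} [Fact p.Prime] {R : Type*} [Group R] [Finite R]
    (hcard : Nat.card R = p ^ a) (ha0 : a ≠ 0) (ha : a ≤ 2) (U : Subgroup (MulAut R))
    (hU : IsPGroup p U) : Nat.card U < Nat.card R := by
  have hp := (Fact.out : p.Prime)
  obtain ⟨r, hr, hr1⟩ := hU.exists_fixed_point_of_prime_dvd_card_of_fixed_point R
    (by rw [hcard]; exact dvd_pow_self p ha0) (a := (1 : R)) (fun u => map_one (u : MulAut R))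
  set K := Subgroup.zpowers r with hK
  have hKfix : ∀ u : U, ∀ x ∈ K, (u : MulAut R) x = x := by
    intro u x hx
    obtain ⟨n, rfl⟩ := hx
    show (u : MulAut R) (r ^ n) = r ^ n
    rw [map_zpow]
    exact congrArg (· ^ n) (hr u)
  by_cases htop : K = ⊤
  · have : Subsingleton U := ⟨fun u v => Subtype.ext (MulEquiv.ext fun x => by
      rw [hKfix u x (htop ▸ Subgroup.mem_top _), hKfix v x (htop ▸ Subgroup.mem_top _)])⟩
    rw [Nat.card_of_subsingleton (1 : U), hcard]
    exact Nat.one_lt_pow ha0 hp.one_lt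
  obtain ⟨s, hs⟩ : ∃ s, s ∉ K := by
    by_contra! h
    exact htop (eq_top_iff.2 fun x _ => h x)
  have hgen : ∀ L : Subgroup R, r ∈ L → s ∈ L → L = ⊤ := by
    intro L hrL hsL
    obtain ⟨k, hk, hk'⟩ := (Nat.dvd_prime_pow hp).1 (hcard ▸ L.card_subgroup_dvd_card)
    obtain ⟨j, hj, hj'⟩ := (Nat.dvd_prime_pow hp).1 (hcard ▸ K.card_subgroup_dvd_card)
    have hKL : K < L := lt_of_le_of_ne ((Subgroup.zpowers_le).2 hrL) fun h => hs (h ▸ hsL)
    have h1 : Nat.card K < Nat.card L :=
      lt_of_not_ge fun h => hKL.ne (Subgroup.eq_of_le_of_card_ge hKL.le h)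
    rw [hk', hj', Nat.pow_lt_pow_iff_right hp.one_lt] at h1
    have hj0 : j ≠ 0 := by
      intro h0
      rw [h0, pow_zero] at hj'
      exact hr1.symm ((Subgroup.zpowers_eq_bot).1 (Subgroup.eq_bot_of_card_eq K hj'))
    refine Subgroup.eq_top_of_card_eq L ?_
    rw [hk', hcard]
    congr 1
    omega
  have hinj : Function.Injective fun u : U => (⟨(u : MulAut R) s, fun h1 => hs (by
      rw [show s = 1 from (u : MulAut R).injective (h1.trans (map_one _).symm)]
      exact one_mem K)⟩ : {x : R // x ≠ 1}) := by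
    intro u v huv
    have h1 : (u : MulAut R) s = (v : MulAut R) s := congrArg Subtype.val huv
    have h2 := hgen (((u : MulAut R) : R →* R).eqLocus ((v : MulAut R) : R →* R))
      ((hKfix u r (Subgroup.mem_zpowers r)).trans (hKfix v r (Subgroup.mem_zpowers r)).symm) h1
    exact Subtype.ext (MulEquiv.ext fun x => (h2 ▸ Subgroup.mem_top x :
      x ∈ ((u : MulAut R) : R →* R).eqLocus ((v : MulAut R) : R →* R)))
  classical
  haveI : Fintype R := Fintype.ofFinite R
  refine (Nat.card_le_card_of_injective _ hinj).trans_lt ?_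
  simp only [Nat.card_eq_fintype_card]
  exact Fintype.card_subtype_lt (x := (1 : R)) (by simp)

namespace CT

variable {Γ : Type u} [Group Γ] [Fintype Γ] {Z : Subgroup Γ} {χ : IrrCharacter Γ} (h : CT Z χ)

include h

/-- A constituent on a normal subgroup gives a fully ramified triple of its inertia group. -/
theorem inertia_FR (R : Subgroup Γ) [hRn : R.Normal] [Fintype R] (hZR : Z ≤ R)
    (ω : IrrCharacter R) (hω : classInner (fun x : R => (χ : Γ → ℂ) x) (ω : R → ℂ) ≠ 0) :
    FR (R.subgroupOf (CfsgLib.Clifford.inertia hRn (ω : R → ℂ))) := by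
  classical
  set I := CfsgLib.Clifford.inertia hRn (ω : R → ℂ) with hI
  haveI : Fintype I := Fintype.ofFinite I
  have hRI : R ≤ I := CfsgLib.Clifford.le_inertia hRn (irr_isClassFunction ω)
  obtain ⟨ψ, hψ, -, hψω⟩ := CfsgLib.Clifford.correspondence hRn ω.2 I hI hRI χ.2 hω
  obtain ⟨m, hm⟩ := classInner_char_nat
    (CfsgLib.Clifford.isCharacter_subtype (irr_isCharacter χ) R) (irr_isCharacter ω)
  -- the norm of the restriction
  have hm2 : m ^ 2 * I.index = R.index := by
    have h1 := h.inner_res R hZR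
    have hcl := CfsgLib.Clifford.clifford hRn χ.2 ω.2 hω
    rw [hm] at hcl
    conv_lhs at h1 => arg 2; rw [hcl]
    rw [classInner_smul_right, classInner_sum_right,
      Finset.sum_congr rfl (g := fun _ => (m : ℂ)) (fun φ hφ => by
        obtain ⟨g, rfl⟩ := (Set.Finite.mem_toFinset _).1 hφ
        rw [CfsgLib.Clifford.classInner_res_conjChar hRn (irr_isClassFunction χ), hm]),
      Finset.sum_const, CfsgLib.Clifford.card_conjOrbit, nsmul_eq_mul, map_natCast, ← hI] at h1
    have h2 : m * (I.index * m) = R.index := by exact_mod_cast h1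
    rw [← h2]; ring
  let R' := R.subgroupOf I
  haveI : R'.Normal := hRn.subgroupOf I
  haveI : Fintype R' := Fintype.ofFinite R'
  let E : R' ≃* R := Subgroup.subgroupOfEquivOfLe hRI
  let θ : IrrCharacter R' := CfsgLib.CharCorr.twistIrr E ω
  have hθ : classInner (fun x : R' => ψ x) (θ : R' → ℂ) = (m : ℂ) := by
    rw [← hm, ← hψω]
    unfold classInner
    rw [Nat.card_congr E.toEquiv]
    congr 1
    exact Fintype.sum_equiv E.toEquiv _ _ fun x => rfl
  have hm0 : m ≠ 0 := fun h0 => hω (by rw [hm, h0, Nat.cast_zero])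
  refine ⟨⟨ψ, hψ⟩, θ, m, ?_, ?_⟩
  · refine Nat.eq_of_mul_eq_mul_right (Nat.pos_of_ne_zero (Subgroup.index_ne_zero_of_finite (H := I)))
      ?_
    rw [hm2]
    exact (Subgroup.relIndex_mul_index hRI).symm
  · intro z
    have hinv : ∀ (g : I) (n : R'),
        (θ : R' → ℂ) ⟨g * n * g⁻¹, (hRn.subgroupOf I).conj_mem (n : I) n.2 g⟩ = (θ : R' → ℂ) n :=
      fun g n => CfsgLib.Clifford.mem_inertia.1 g.2 (E n)
    have h1 := CfsgLib.Ramified.res_eq_smul_of_invariant R' hψ θ.2 hinv
      (by rw [hθ]; exact Nat.cast_ne_zero.2 hm0)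
    rw [hθ] at h1
    exact congrFun h1 z

/-- Solvability from an abelian minimal normal section. -/
theorem solvable_of_radical [Z.Normal] (R : Subgroup Γ) [hRn : R.Normal] (hZR : Z ≤ R)
    (hne : R ≠ Z) (hab : ∀ x ∈ R, ∀ y ∈ R, ⁅x, y⁆ ∈ Z)
    (hmin : ∀ K : Subgroup Γ, K.Normal → Z ≤ K → K ≤ R → K = Z ∨ K = R)
    {p a : ℕ} (hp : p.Prime) (hR : Z.relIndex R = p ^ a) (hAb : AbSyl (Γ ⧸ Z))
    (IH : SolvBelow.{u} Z.index) : Group.IsSolvable Γ := by
  classical
  haveI := Fact.mk hp
  haveI : Fintype R := Fintype.ofFinite R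
  haveI : Fintype Z := Fintype.ofFinite Z
  let mk := QuotientGroup.mk' Z
  have hmk : Function.Surjective mk := QuotientGroup.mk'_surjective Z
  have hZcomm : ∀ z ∈ Z, ∀ g : Γ, g * z = z * g := fun z hz g =>
    Subgroup.mem_center_iff.1 (h.central hz) g
  have hZsol : Group.IsSolvable Z := Group.isSolvable_of_comm fun a b =>
    Subtype.ext (hZcomm b b.2 a)
  have hRsol : Group.IsSolvable R := by
    let f := mk.comp R.subtype
    haveI : Group.IsSolvable f.range := Group.isSolvable_of_comm fun a b => by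
      obtain ⟨x, hx⟩ := a.2
      obtain ⟨y, hy⟩ := b.2
      refine Subtype.ext ?_
      rw [Subgroup.coe_mul, Subgroup.coe_mul, ← hx, ← hy]
      exact commutatorElement_eq_one_iff_mul_comm.1 (by
        show ⁅mk (x : Γ), mk (y : Γ)⁆ = 1
        rw [← map_commutatorElement]
        exact (QuotientGroup.eq_one_iff _).2 (hab _ x.2 _ y.2))
    exact Group.isSolvable_of_ker_le_range (Subgroup.inclusion hZR) f.rangeRestrict
      (fun x hx => ⟨⟨x, (QuotientGroup.eq_one_iff _).1 (congrArg Subtype.val hx)⟩, rfl⟩)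
  have ha0 : a ≠ 0 := by
    intro h0
    rw [h0, pow_zero, Subgroup.relIndex_eq_one] at hR
    exact hne (le_antisymm hR hZR)
  obtain ⟨e, he0, he, he2⟩ := h.exists_deg
  obtain ⟨ω, hω⟩ := CfsgLib.Clifford.exists_constituent
    (CfsgLib.Clifford.isCharacter_subtype (irr_isCharacter χ) R)
    (fun h0 => irr_one_ne_zero χ (congrFun h0 1))
  have hsc := h.scalar_of_constituent R hZR ω hω
  have hωz : ∀ z : Z, (ω : R → ℂ) ⟨z, hZR z.2⟩ = (h.lam z : ℂ) * (ω : R → ℂ) 1 := fun z => by
    simpa using hsc z 1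
  set I := CfsgLib.Clifford.inertia hRn (ω : R → ℂ) with hI
  have hRI : R ≤ I := CfsgLib.Clifford.le_inertia hRn (irr_isClassFunction ω)
  -- the inertia group is solvable
  have hIsol : Group.IsSolvable I := by
    haveI : (R.subgroupOf I).Normal := hRn.subgroupOf I
    have hidx : (R.subgroupOf I).index < Z.index := by
      show R.relIndex I < Z.index
      rw [← Subgroup.relIndex_mul_index hZR, hR]
      calc R.relIndex I ≤ R.index :=
            Nat.le_of_dvd (Nat.pos_of_ne_zero Subgroup.index_ne_zero_of_finite)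
              (Subgroup.relIndex_dvd_index_of_normal R I)
        _ < p ^ a * R.index := lt_mul_left (Nat.pos_of_ne_zero Subgroup.index_ne_zero_of_finite)
              (Nat.one_lt_pow ha0 hp.one_lt)
    have hAbI : AbSyl (I ⧸ R.subgroupOf I) := by
      let f := mk.comp I.subtype
      let g : I ⧸ f.ker →* I ⧸ R.subgroupOf I :=
        QuotientGroup.lift f.ker (QuotientGroup.mk' _) fun x hx =>
          (QuotientGroup.eq_one_iff x).2 (Subgroup.mem_subgroupOf.2
            (hZR ((QuotientGroup.eq_one_iff _).1 hx)))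
      refine AbSyl.of_surjective (AbSyl.of_injective hAb (QuotientGroup.kerLift f)
        (QuotientGroup.kerLift_injective f)) g fun q => ?_
      obtain ⟨x, rfl⟩ := QuotientGroup.mk_surjective q
      exact ⟨x, rfl⟩
    haveI := IH I (R.subgroupOf I) (h.inertia_FR R hZR ω hω) hidx hAbI
    haveI := hRsol
    exact Group.isSolvable_of_ker_le_range (Subgroup.inclusion hRI)
      (QuotientGroup.mk' (R.subgroupOf I))
      (by rw [QuotientGroup.ker_mk']; exact fun x hx => ⟨⟨x, hx⟩, rfl⟩)
  -- the centre of `R` is `Z` or `R`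
  rcases hmin (R ⊓ Subgroup.centralizer (R : Set Γ)) inferInstance
    (le_inf hZR fun z hz => Subgroup.mem_centralizer_iff.2 fun r _ => hZcomm z hz r) inf_le_left
    with hcen | hcen
  · have hvan : ∀ x : R, (x : Γ) ∉ Z → (ω : R → ℂ) x = 0 := by
      intro x hx
      obtain ⟨y, hy, hxy⟩ : ∃ y ∈ R, y * (x : Γ) ≠ x * y := by
        by_contra! hh
        exact hx (hcen.le ⟨x.2, Subgroup.mem_centralizer_iff.2 hh⟩)
      set c : Z := ⟨⁅y, (x : Γ)⁆, hab y hy x x.2⟩
      have hc1 : (h.lam c : ℂ) ≠ 1 := fun h1 => hxy (commutatorElement_eq_one_iff_mul_comm.1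
        (congrArg Subtype.val (h.lam_injective
          ((Units.ext h1 : h.lam c = 1).trans (map_one h.lam).symm))))
      have h1 := irr_isClassFunction ω x (⟨y, hy⟩ : R)
      have h2 : (⟨y, hy⟩ : R) * x * (⟨y, hy⟩ : R)⁻¹ = ⟨(c : Γ), hZR c.2⟩ * x := Subtype.ext (by
        simp [c, commutatorElement_def, mul_assoc])
      rw [h2, hsc] at h1
      by_contra hne0
      exact hc1 ((mul_eq_right₀ hne0).1 h1)
    have htop : I = ⊤ := by
      refine eq_top_iff.2 fun g _ => CfsgLib.Clifford.mem_inertia.2 fun n => ?_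
      by_cases hn : (n : Γ) ∈ Z
      · refine congrArg (ω : R → ℂ) (Subtype.ext ?_)
        show g * (n : Γ) * g⁻¹ = n
        rw [hZcomm n hn g, mul_inv_cancel_right]
      · rw [hvan n hn, hvan _ fun hg => hn (by
          have := (inferInstance : Z.Normal).conj_mem' _ hg g
          simpa [mul_assoc] using this)]
    haveI := hIsol
    exact Group.isSolvable_of_surjective (f := I.subtype)
      fun g => ⟨⟨g, htop ▸ Subgroup.mem_top g⟩, rfl⟩
  have hRcomm : ∀ x ∈ R, ∀ y ∈ R, y * x = x * y := fun x hx y hy =>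
    Subgroup.mem_centralizer_iff.1 (hcen.ge hx).2 y hy
  haveI : IsMulCommutative R := ⟨⟨fun x y => Subtype.ext (hRcomm _ y.2 _ x.2)⟩⟩
  have hω1 : (ω : R → ℂ) 1 = 1 := CfsgLib.CharIto.degree_one_of_comm ω.2
  have hω0 : ∀ x : R, (ω : R → ℂ) x ≠ 0 := fun x => by
    rw [← CfsgLib.CharIto.coe_linearHom (irr_isCharacter ω) hω1 x]
    exact Units.ne_zero _
  -- the index of the inertia group
  have hIidx : I.index = p ^ a := by
    have hk0 : (Z.relIndex R : ℂ) ≠ 0 := by rw [hR]; exact_mod_cast pow_ne_zero a hp.ne_zero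
    have h1 := h.inner_of_scalar R hZR (f := (ω : R → ℂ)) 1 fun z => by
      rw [one_mul, hωz, hω1, mul_one]
    have h2 := CfsgLib.Clifford.clifford_degree hRn χ.2 ω.2 hω
    rw [← hI, hω1, mul_one, h1, map_one, mul_one, he] at h2
    have h3 : (I.index : ℂ) = (Z.relIndex R : ℂ) := by
      field_simp at h2
      exact h2.symm
    rw [← hR]
    exact_mod_cast h3
  let Rb := R.map mk
  haveI : Rb.Normal := Subgroup.Normal.map hRn mk hmk
  have hRbcard : Nat.card Rb = p ^ a := by
    have h1 := Subgroup.relIndex_comap (⊥ : Subgroup (Γ ⧸ Z)) mk R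
    rw [MonoidHom.comap_bot, QuotientGroup.ker_mk', Subgroup.relIndex_bot_left] at h1
    rw [← hR, h1]
  let f : Γ ⧸ Z →* MulAut Rb := MulAut.conjNormal
  let Φ := f.comp mk
  set C := Φ.ker with hC
  have hCmem : ∀ g, g ∈ C ↔ ∀ r ∈ R, ⁅g, r⁆ ∈ Z := by
    intro g
    constructor
    · intro hg r hr
      have h1 := congrArg Subtype.val
        (MulEquiv.congr_fun (show f (mk g) = 1 from hg) ⟨mk r, r, hr, rfl⟩)
      rw [MulAut.conjNormal_apply] at h1
      refine (QuotientGroup.eq_one_iff _).1 ?_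
      show mk ⁅g, r⁆ = 1
      rw [map_commutatorElement, commutatorElement_def, h1]
      exact mul_inv_cancel _
    · intro hg
      refine MulEquiv.ext ?_
      rintro ⟨_, r, hr, rfl⟩
      refine Subtype.ext ?_
      show ((f (mk g)) ⟨mk r, r, hr, rfl⟩ : Γ ⧸ Z) = mk r
      rw [MulAut.conjNormal_apply]
      have := (QuotientGroup.eq_one_iff _).2 (hg r hr)
      change mk ⁅g, r⁆ = 1 at this
      rwa [map_commutatorElement, commutatorElement_def, mul_inv_eq_one] at this
  -- the pairing of `C` with `R`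
  let β : C →* (R →* ℂˣ) :=
    MonoidHom.mk' (fun c => MonoidHom.mk'
      (fun r => h.lam ⟨⁅(c : Γ), (r : Γ)⁆, (hCmem c).1 c.2 r r.2⟩) fun r s => by
        rw [← map_mul]
        refine congrArg h.lam (Subtype.ext ?_)
        show ⁅(c : Γ), (r : Γ) * s⁆ = ⁅(c : Γ), (r : Γ)⁆ * ⁅(c : Γ), (s : Γ)⁆
        have hz := hZcomm _ ((hCmem c).1 c.2 s s.2) (r : Γ)
        calc ⁅(c : Γ), (r : Γ) * s⁆
            = ⁅(c : Γ), (r : Γ)⁆ * ((r : Γ) * ⁅(c : Γ), (s : Γ)⁆ * (r : Γ)⁻¹) := by
              simp only [commutatorElement_def]; group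
          _ = ⁅(c : Γ), (r : Γ)⁆ * ⁅(c : Γ), (s : Γ)⁆ := by rw [hz, mul_inv_cancel_right])
      fun c d => MonoidHom.ext fun r => by
        show h.lam _ = h.lam _ * h.lam _
        rw [← map_mul]
        refine congrArg h.lam (Subtype.ext ?_)
        show ⁅(c : Γ) * d, (r : Γ)⁆ = ⁅(c : Γ), (r : Γ)⁆ * ⁅(d : Γ), (r : Γ)⁆
        have hz := hZcomm _ ((hCmem d).1 d.2 r r.2)
        calc ⁅(c : Γ) * d, (r : Γ)⁆
            = (c : Γ) * ⁅(d : Γ), (r : Γ)⁆ * (c : Γ)⁻¹ * ⁅(c : Γ), (r : Γ)⁆ := by
              simp only [commutatorElement_def]; group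
          _ = ⁅(c : Γ), (r : Γ)⁆ * ⁅(d : Γ), (r : Γ)⁆ := by
              rw [hz (c : Γ), mul_inv_cancel_right, hz ⁅(c : Γ), (r : Γ)⁆]
  have hβI : ∀ c : C, (c : Γ) ∈ I ↔ c ∈ β.ker := by
    intro c
    have hval : ∀ r : R,
        (ω : R → ℂ) ⟨(c : Γ) * r * (c : Γ)⁻¹, hRn.conj_mem (r : Γ) r.2 c⟩ =
          ((β c r : ℂˣ) : ℂ) * (ω : R → ℂ) r := by
      intro r
      show _ = (h.lam _ : ℂ) * _
      rw [← hsc]
      exact congrArg (ω : R → ℂ) (Subtype.ext (by simp [commutatorElement_def]))
    constructor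
    · intro hc
      refine MonoidHom.ext fun r => Units.ext ?_
      have := hval r
      rw [CfsgLib.Clifford.mem_inertia.1 hc r] at this
      exact (mul_eq_right₀ (hω0 r)).1 this.symm
    · intro hc
      refine CfsgLib.Clifford.mem_inertia.2 fun r => ?_
      rw [hval r, DFunLike.congr_fun (show β c = 1 from hc) r]
      simp
  have hkerle : ∀ x : C, x ∈ β.ker → (x : Γ) ∈ I := fun x hx => (hβI x).2 hx
  have hnot : ¬ C ≤ I := by
    intro hCI
    have hdvd : p ^ a ∣ C.index := hIidx ▸ Subgroup.index_dvd_of_le hCI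
    have hCidx : C.index = Nat.card f.range := by
      rw [hC, Subgroup.index_ker]
      congr 1
      rw [show Φ.range = f.range from by
        rw [MonoidHom.range_comp, MonoidHom.range_eq_top.2 hmk, ← MonoidHom.range_eq_map]]
    by_cases h6 : p ^ 6 ∣ Z.index
    · obtain ⟨P⟩ : Nonempty (Sylow p (Γ ⧸ Z)) := inferInstance
      have hP := hAb p hp h6 P
      obtain ⟨Q, hQ⟩ := (IsPGroup.of_card hRbcard : IsPGroup p Rb).exists_le_sylow
      obtain ⟨g, hg⟩ := MulAction.exists_smul_eq (Γ ⧸ Z) Q P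
      have hRP : Rb ≤ P := by
        intro x hx
        have hx' : g⁻¹ * x * g ∈ (Q : Subgroup (Γ ⧸ Z)) :=
          hQ ((inferInstance : Rb.Normal).conj_mem' x hx g)
        rw [← hg, Sylow.coe_subgroup_smul, Subgroup.mem_pointwise_smul_iff_inv_smul_mem]
        simpa [MulAut.smul_def, MulAut.inv_def] using hx'
      have hPk : (P : Subgroup (Γ ⧸ Z)) ≤ f.ker := fun x hx => MulEquiv.ext fun r => Subtype.ext (by
        rw [MulAut.conjNormal_apply]
        show x * r * x⁻¹ = r
        rw [show x * (r : Γ ⧸ Z) = r * x from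
          congrArg Subtype.val (hP.is_comm.comm ⟨x, hx⟩ ⟨r, hRP r.2⟩), mul_inv_cancel_right])
      exact P.not_dvd_index (((dvd_pow_self p ha0).trans (hCidx ▸ hdvd)).trans
        ((Subgroup.index_ker f).symm ▸ Subgroup.index_dvd_of_le hPk))
    · have ha : a ≤ 2 := by
        by_contra hlt
        refine h6 (Nat.dvd_trans (pow_dvd_pow p (show 6 ≤ 2 * a by omega)) ?_)
        rw [two_mul, pow_add, ← Subgroup.relIndex_mul_index hZR, hR]
        exact mul_dvd_mul_left _ (hIidx ▸ Subgroup.index_dvd_of_le hRI)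
      obtain ⟨U⟩ : Nonempty (Sylow p f.range) := inferInstance
      have hU : p ^ a ∣ Nat.card U := U.pow_dvd_card_of_pow_dvd_card (hCidx ▸ hdvd)
      have hlt := card_lt_of_isPGroup_aut hRbcard ha0 ha
        ((U : Subgroup f.range).map f.range.subtype) (U.2.map _)
      rw [Subgroup.card_map_of_injective f.range.subtype_injective, hRbcard] at hlt
      exact absurd (Nat.le_of_dvd Nat.card_pos hU) (not_le.2 hlt)
  obtain ⟨c₀, hc₀, hc₀I⟩ := SetLike.not_le_iff_exists.1 hnot
  -- `R / Z` embeds in the dual of `C`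
  have hlow : p ^ a ≤ I.relIndex C := by
    let ev : R →* (β.range →* ℂˣ) :=
      MonoidHom.mk' (fun r => MonoidHom.mk' (fun φ => (φ : R →* ℂˣ) r) fun φ ψ => rfl) fun r s =>
        MonoidHom.ext fun φ => map_mul (φ : R →* ℂˣ) r s
    haveI : Finite β.range := Finite.of_surjective β.rangeRestrict β.rangeRestrict_surjective
    haveI : Finite (β.range →* ℂˣ) :=
      ((linearIndependent_monoidHom β.range ℂ).comp
        (fun f : β.range →* ℂˣ => (Units.coeHom ℂ).comp f)
        (fun f g hfg => MonoidHom.ext fun a => Units.ext (DFunLike.congr_fun hfg a))).finite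
    have hev : ev.ker = Z.subgroupOf R := by
      set K : Subgroup Γ := R ⊓ Subgroup.centralizer (C : Set Γ) with hK
      have hKZ : K = Z := by
        haveI : K.Normal := inferInstance
        refine (hmin K inferInstance (le_inf hZR fun z hz =>
          Subgroup.mem_centralizer_iff.2 fun c _ => hZcomm z hz c) inf_le_left).resolve_right
          fun hKR => hc₀I ((hβI ⟨c₀, hc₀⟩).2 ?_)
        refine MonoidHom.ext fun r => ?_
        show h.lam _ = 1
        rw [← map_one h.lam]
        refine congrArg h.lam (Subtype.ext (commutatorElement_eq_one_iff_mul_comm.2 ?_))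
        exact Subgroup.mem_centralizer_iff.1 (hKR.ge r.2).2 c₀ hc₀
      ext r
      rw [Subgroup.mem_subgroupOf]
      constructor
      · intro hr
        refine hKZ.le ⟨r.2, Subgroup.mem_centralizer_iff.2 fun c hc => ?_⟩
        have h1 : β ⟨c, hc⟩ r = 1 :=
          DFunLike.congr_fun (show ev r = 1 from hr) ⟨β ⟨c, hc⟩, ⟨c, hc⟩, rfl⟩
        exact commutatorElement_eq_one_iff_mul_comm.1
          (congrArg Subtype.val (h.lam_injective (h1.trans (map_one h.lam).symm)))
      · intro hr
        refine MonoidHom.ext ?_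
        rintro ⟨_, c, rfl⟩
        show h.lam _ = 1
        rw [← map_one h.lam]
        exact congrArg h.lam (Subtype.ext (commutatorElement_eq_one_iff_mul_comm.2
          (hZcomm _ hr c)))
    have hker : β.ker = I.subgroupOf C := Subgroup.ext fun c => (hβI c).symm
    calc p ^ a = Nat.card ev.range := by rw [← Subgroup.index_ker, hev, ← hR]; rfl
      _ ≤ Nat.card (β.range →* ℂˣ) := Subgroup.card_le_card_group ev.range
      _ ≤ Nat.card β.range := card_homs_le _
      _ = I.relIndex C := by rw [← Subgroup.index_ker, hker]; rfl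
  -- so `I` covers `Γ / C`
  haveI hCn : C.Normal := Φ.normal_ker
  have heq : I.relIndex C = I.index :=
    le_antisymm ((Subgroup.relIndex_le_of_le_right le_top
      (by rw [Subgroup.relIndex_top_right]; exact Subgroup.index_ne_zero_of_finite)).trans_eq
      (Subgroup.relIndex_top_right I)) (hIidx ▸ hlow)
  have hCsol : Group.IsSolvable C := by
    haveI := hIsol
    haveI : Group.IsSolvable β.ker := Group.isSolvable_of_isSolvable_injective
      (f := (C.subtype.comp β.ker.subtype).codRestrict I fun x => hkerle x x.2)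
      (fun x y hxy => Subtype.ext (Subtype.ext (congrArg (fun w : I => (w : Γ)) hxy)))
    exact Group.isSolvable_of_ker_le_range β.ker.subtype β (by simp)
  have hQsol : Group.IsSolvable (Γ ⧸ C) := by
    haveI := hIsol
    refine Group.isSolvable_of_surjective (f := (QuotientGroup.mk' C).comp I.subtype) ?_
    rw [← MonoidHom.range_eq_top]
    refine Subgroup.eq_top_of_card_eq _ ?_
    rw [← Subgroup.index_ker, ← Subgroup.index_eq_card,
      show ((QuotientGroup.mk' C).comp I.subtype).ker = C.subgroupOf I from by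
        rw [← MonoidHom.comap_ker, QuotientGroup.ker_mk']; rfl]
    have h1 := Blk4.FullyRamified.relIndex_symm I C
    rw [heq, mul_comm (C.relIndex I)] at h1
    exact (Nat.eq_of_mul_eq_mul_left (Nat.pos_of_ne_zero Subgroup.index_ne_zero_of_finite) h1).symm
  haveI := hCsol
  exact Group.isSolvable_of_ker_le_range C.subtype (QuotientGroup.mk' C) (by simp)

end CT

end CfsgLib.CentralType
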